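import Cfsg.Agent.Components.PLocal
import Cfsg.Agent.H92.ExtraIso
import Cfsg.Prelude.Def_MonsterType

/-!
Passage of a centraliser with extraspecial generalised Fitting subgroup to an overgroup of index two
and along an isomorphism; the involution is central in a Sylow subgroup.
-/

set_option autoImplicit false
set_option linter.style.haveILetI false

namespace Cfsg.Agent.H89.MonsterFi24

open Cfsg Cfsg.Agent.Components

/-- The generalised Fitting subgroup of the centraliser in the overgroup. -/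
theorem fit_centralizer {X : Type*} [Group X] [Finite X] (G₀ : Subgroup X) [hn : G₀.Normal] (z : G₀)
    (R : Subgroup (Subgroup.centralizer ({z} : Set G₀)))
    [hRn : R.Normal]
    (hF : generalizedFittingSubgroup (Subgroup.centralizer ({z} : Set G₀)) = R) (hR2 : IsPGroup 2 R)
    (hmove : ∀ p : X, p ∉ G₀ → p * z = z * p → ∃ r ∈ R, p * ((r : G₀) : X) ≠ ((r : G₀) : X) * p)
    (hnc : ∀ p : X, p ∉ G₀ → p * z = z * p → ∃ c : Subgroup.centralizer ({z} : Set G₀), ∀ r ∈ R,
      p * ((c : G₀) : X) * p⁻¹ * ((c : G₀) : X)⁻¹ ≠ ((r : G₀) : X)) :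
    (generalizedFittingSubgroup ↥(Subgroup.centralizer ({(z : X)} : Set X))).map (Subgroup.subtype _) =
      (R.map (Subgroup.subtype _)).map G₀.subtype := by
  classical
  haveI : Fact (Nat.Prime 2) := ⟨Nat.prime_two⟩
  set C := Subgroup.centralizer ({(z : X)} : Set X) with hC
  let ν : Subgroup.centralizer ({z} : Set G₀) →* C := MonoidHom.mk'
    (fun c => ⟨((c : G₀) : X), Subgroup.mem_centralizer_singleton_iff.2
      (congrArg Subtype.val (Subgroup.mem_centralizer_singleton_iff.1 c.2))⟩)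
    fun a c => Subtype.ext rfl
  have hνi : Function.Injective ν := fun a c h => Subtype.ext (Subtype.ext (congrArg (fun u : C => (u : X)) h))
  have hνr : ν.range = G₀.subgroupOf C := by
    ext p
    constructor
    · rintro ⟨c, rfl⟩; exact c.1.2
    · intro hp
      exact ⟨⟨⟨p, hp⟩, Subgroup.mem_centralizer_singleton_iff.2
        (Subtype.ext (Subgroup.mem_centralizer_singleton_iff.1 p.2))⟩, Subtype.ext rfl⟩
  haveI : ν.range.Normal := hνr ▸ hn.subgroupOf C
  have hcoreR : pCore 2 (Subgroup.centralizer ({z} : Set G₀)) = R :=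
    le_antisymm (hF ▸ (pCore_le_fitting 2).trans fitting_le_genFitting) (Cfsg.Agent.Cores.le_pCore hR2)
  set R2 := R.map ν with hR2def
  haveI hR2n : R2.Normal := by
    have e : R2 = (pCore 2 ν.range).map ν.range.subtype := by
      rw [← Cfsg.Agent.Cores.pCore_map_mulEquiv (MonoidHom.ofInjective hνi), hcoreR, hR2def,
        Subgroup.map_map]
      rfl
    rw [e]
    haveI : (pCore 2 ν.range).Characteristic := inferInstance
    infer_instance
  have hPin : ∀ p ∈ pCore 2 C, (p : X) ∈ G₀ → p ∈ R2 := by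
    intro p hp hpG
    obtain ⟨c, rfl⟩ : p ∈ ν.range := hνr ▸ hpG
    refine ⟨c, ?_, rfl⟩
    haveI : ((pCore 2 C).comap ν).Normal := Subgroup.Normal.comap inferInstance ν
    have hle := Cfsg.Agent.Cores.le_pCore
      (Cfsg.Agent.Cores.pCore_isPGroup.comap_of_injective (H := pCore 2 C) ν hνi)
    rw [← hcoreR]
    exact hle hp
  have hcore : pCore 2 C = R2 := by
    refine le_antisymm (fun p hp => hPin p hp ?_) (Cfsg.Agent.Cores.le_pCore (hR2.map ν))
    by_contra hpG
    obtain ⟨c, hc⟩ := hnc p hpG (Subgroup.mem_centralizer_singleton_iff.1 p.2)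
    have hm : p * ν c * p⁻¹ * (ν c)⁻¹ ∈ pCore 2 C := by
      have hn2 : (pCore 2 C).Normal := inferInstance
      rw [show p * ν c * p⁻¹ * (ν c)⁻¹ = p * (ν c * p⁻¹ * (ν c)⁻¹) by group]
      exact mul_mem hp (hn2.conj_mem _ (inv_mem hp) _)
    obtain ⟨r, hr, hre⟩ := hPin _ hm (by
      show (p : X) * ((c : G₀) : X) * (p : X)⁻¹ * ((c : G₀) : X)⁻¹ ∈ G₀
      exact mul_mem (hn.conj_mem _ c.1.2 p) (inv_mem c.1.2))
    exact hc r hr (congrArg (fun u : C => (u : X)) hre).symm
  have hcent : Subgroup.centralizer (R2 : Set C) ≤ R2 := by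
    intro p hp
    by_cases hpG : (p : X) ∈ G₀
    · obtain ⟨c, rfl⟩ : p ∈ ν.range := hνr ▸ hpG
      refine ⟨c, ?_, rfl⟩
      rw [← hF]
      refine centralizer_genFitting_le (fun r hr => hνi ?_)
      rw [map_mul, map_mul]
      exact hp _ ⟨r, hF ▸ hr, rfl⟩
    · exfalso
      obtain ⟨r, hr, hne⟩ := hmove p hpG (Subgroup.mem_centralizer_singleton_iff.1 p.2)
      exact hne (congrArg (fun u : C => (u : X)) (hp _ ⟨r, hr, rfl⟩)).symm
  have hFC : generalizedFittingSubgroup C = R2 := by
    rw [← hcore]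
    refine (genFitting_eq_pCore_iff (p := 2)).2 ?_
    rw [hcore]
    exact hcent
  rw [hFC, hR2def, Subgroup.map_map, Subgroup.map_map]
  rfl

/-- Such an involution is central in a Sylow subgroup. -/
theorem sylow_central {G : Type*} [Group G] [Finite G] {z : G} (hz : orderOf z = 2)
    {R : Subgroup (Subgroup.centralizer ({z} : Set G))}
    (hF : generalizedFittingSubgroup (Subgroup.centralizer ({z} : Set G)) = R) (hR : IsExtraspecial 2 R) :
    ∃ P : Sylow 2 G, z ∈ (P : Subgroup G) ∧ ∀ x ∈ (P : Subgroup G), Commute x z := by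
  classical
  haveI : Fact (Nat.Prime 2) := ⟨Nat.prime_two⟩
  have hzC : z ∈ Subgroup.centralizer ({z} : Set G) := Subgroup.mem_centralizer_singleton_iff.2 rfl
  have hzR : (⟨z, hzC⟩ : Subgroup.centralizer ({z} : Set G)) ∈ R := by
    rw [← hF]
    refine centralizer_genFitting_le fun r _ => Subtype.ext ?_
    exact Subgroup.mem_centralizer_singleton_iff.1 r.2
  obtain ⟨P, hP⟩ := (hR.1.1.map (Subgroup.centralizer ({z} : Set G)).subtype).exists_le_sylow
  haveI : Nontrivial (P : Subgroup G) := by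
    refine ⟨⟨⟨z, hP ⟨_, hzR, rfl⟩⟩, 1, fun h => ?_⟩⟩
    have h1 : z = 1 := congrArg Subtype.val h
    rw [h1, orderOf_one] at hz
    norm_num at hz
  haveI := P.isPGroup'.center_nontrivial
  obtain ⟨⟨y, hy⟩, hy1⟩ := exists_ne (1 : Subgroup.center (P : Subgroup G))
  have hyc : ∀ x ∈ (P : Subgroup G), Commute x (y : G) := fun x hx =>
    congrArg Subtype.val (Subgroup.mem_center_iff.1 hy ⟨x, hx⟩)
  have hyC : (y : G) ∈ Subgroup.centralizer ({z} : Set G) :=
    Subgroup.mem_centralizer_singleton_iff.2 (hyc z (hP ⟨_, hzR, rfl⟩)).symm.eq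
  have hyR : (⟨y, hyC⟩ : Subgroup.centralizer ({z} : Set G)) ∈ R := by
    rw [← hF]
    refine centralizer_genFitting_le fun r hr => Subtype.ext ?_
    exact hyc r (hP ⟨r, hF ▸ hr, rfl⟩)
  have hyz : (⟨⟨y, hyC⟩, hyR⟩ : R) ∈ Subgroup.center R :=
    Subgroup.mem_center_iff.2 fun r => Subtype.ext (Subtype.ext (hyc _ (hP ⟨r.1, r.2, rfl⟩)))
  have hzz : (⟨⟨z, hzC⟩, hzR⟩ : R) ∈ Subgroup.center R :=
    Subgroup.mem_center_iff.2 fun r => Subtype.ext (Subtype.ext
      (Subgroup.mem_centralizer_singleton_iff.1 (r : Subgroup.centralizer ({z} : Set G)).2))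
  obtain ⟨u, -, huniq⟩ := (Nat.card_eq_two_iff' (1 : Subgroup.center R)).1 hR.2
  have e1 := huniq ⟨_, hyz⟩ fun h => hy1 (Subtype.ext (Subtype.ext
    (congrArg (fun v : Subgroup.center R => ((v : R) : Subgroup.centralizer ({z} : Set G)).1) h)))
  have e2 := huniq ⟨_, hzz⟩ fun h => by
    have h1 : z = 1 :=
      congrArg (fun v : Subgroup.center R => ((v : R) : Subgroup.centralizer ({z} : Set G)).1) h
    rw [h1, orderOf_one] at hz
    norm_num at hz
  have hyz' : (y : G) = z :=
    congrArg (fun v : Subgroup.center R => ((v : R) : Subgroup.centralizer ({z} : Set G)).1)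
      (e1.trans e2.symm)
  exact ⟨P, hP ⟨_, hzR, rfl⟩, fun x hx => hyz' ▸ hyc x hx⟩

/-- The centralisers along an isomorphism. -/
def centEquiv {A A' : Type*} [Group A] [Group A'] (f : A ≃* A') (z : A) :
    Subgroup.centralizer ({z} : Set A) ≃* Subgroup.centralizer ({f z} : Set A') where
  toFun a := ⟨f a, Subgroup.mem_centralizer_singleton_iff.2 (by
    rw [← map_mul, ← map_mul, Subgroup.mem_centralizer_singleton_iff.1 a.2])⟩
  invFun a := ⟨f.symm a, Subgroup.mem_centralizer_singleton_iff.2 (f.injective (by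
    rw [map_mul, map_mul, MulEquiv.apply_symm_apply, Subgroup.mem_centralizer_singleton_iff.1 a.2]))⟩
  left_inv a := Subtype.ext (f.symm_apply_apply _)
  right_inv a := Subtype.ext (f.apply_symm_apply _)
  map_mul' a b := Subtype.ext (map_mul f _ _)

theorem centEquiv_apply {A A' : Type*} [Group A] [Group A'] (f : A ≃* A') (z : A)
    (a : Subgroup.centralizer ({z} : Set A)) :
    (centEquiv f z a : A') = f a := rfl

/-- The large Fischer setting along an isomorphism. -/
theorem largeFischer_transport {A A' : Type*} [Group A] [Finite A] [Group A'] [Finite A']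
    (f : A ≃* A') {z : A} {R : Subgroup (Subgroup.centralizer ({z} : Set A))} [R.Normal]
    (h : IsOfLargeFischerTypeAt z R) :
    ∃ _ : (R.map (centEquiv f z).toMonoidHom).Normal,
      IsOfLargeFischerTypeAt (f z) (R.map (centEquiv f z).toMonoidHom) := by
  obtain ⟨⟨hz, hF, hex, hcard, g, ⟨hq, hgR⟩, hgz⟩, N, M, hN, hM, hRN, hNM, hNc, ⟨K, iK, iF, hK, ⟨φ⟩⟩, hMi⟩ := h
  set ε := centEquiv f z
  have hRn : (R.map ε.toMonoidHom).Normal := Subgroup.Normal.map inferInstance _ ε.surjective
  haveI hNn : (N.map ε.toMonoidHom).Normal := Subgroup.Normal.map hN _ ε.surjective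
  haveI hMn : (M.map ε.toMonoidHom).Normal := Subgroup.Normal.map hM _ ε.surjective
  refine ⟨hRn, ⟨(f.orderOf_eq z).trans hz, ?_, ?_, ?_, f g, ?_, ?_⟩, N.map ε.toMonoidHom,
    M.map ε.toMonoidHom, hNn, hMn, Subgroup.map_mono hRN, Subgroup.map_mono hNM, ?_,
    ⟨K, iK, iF, hK, ⟨?_⟩⟩, ?_⟩
  · rw [← map_genFitting_equiv ε, hF]
  · exact Cfsg.Agent.H92.isExtraspecial_of_mulEquiv (R.equivMapOfInjective _ ε.injective) hex
  · rw [← hcard]
    exact Subgroup.card_map_of_injective ε.injective
  · have hmem : f g * f z * (f g)⁻¹ = f (g * z * g⁻¹) := by rw [map_mul, map_mul, map_inv]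
    refine ⟨by rw [hmem]; exact (ε ⟨_, hq⟩).2, ?_⟩
    exact ⟨⟨_, hq⟩, hgR, Subtype.ext hmem.symm⟩
  · intro he
    refine hgz (f.injective ?_)
    rw [map_mul, map_mul, map_inv]
    exact he
  · rw [← Nat.card_congr (N.equivMapOfInjective ε.toMonoidHom ε.injective).toEquiv,
      ← Nat.card_congr (R.equivMapOfInjective ε.toMonoidHom ε.injective).toEquiv, hNc]
  · let μ := M.equivMapOfInjective ε.toMonoidHom ε.injective
    have hμ : ((N.map ε.toMonoidHom).subgroupOf (M.map ε.toMonoidHom)) =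
        (N.subgroupOf M).map μ.toMonoidHom := by
      ext d
      obtain ⟨m, rfl⟩ := μ.surjective d
      rw [show (μ m ∈ (N.subgroupOf M).map μ.toMonoidHom) ↔ m ∈ N.subgroupOf M from
        Subgroup.mem_map_iff_mem (f := μ.toMonoidHom) μ.injective, Subgroup.mem_subgroupOf,
        Subgroup.mem_subgroupOf]
      exact Subgroup.mem_map_iff_mem (f := ε.toMonoidHom) ε.injective
    exact ((QuotientGroup.congr _ _ μ hμ.symm).symm).trans φ
  · exact (Subgroup.index_map_equiv M ε).trans hMi

end Cfsg.Agent.H89.MonsterFi24
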