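import Cfsg.Agent.H89.MonsterFi24.Inverter
import Cfsg.Agent.H89.MonsterThree.Quot

/-!
The fixed classes are irreducible under the centraliser, and the centraliser has no non-trivial image of
odd order.
-/

set_option autoImplicit false
set_option maxRecDepth 100000
set_option maxHeartbeats 1000000
set_option linter.style.haveILetI false

namespace Cfsg.Agent.H89.MonsterFi24

open Cfsg Cfsg.Agent.Golay Cfsg.Agent.H92.LeechTwo
open Cfsg.Agent.Unitary (ap_def)
open Cfsg.Agent.H41.SUSix (Vec K4 ω₄ diagG diagG_mem D_le_K mat_monoG mono_eq_diagonal mono_mulVec_single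
  pm_even_mem mat_pmG)
open Cfsg.Agent.H41.LFi (Kl lin lin_apply lin_injective exists_smul_mem commutator_Kl eb vec_expand)
open Cfsg.Agent.H89.MonsterThree
open Cfsg.Agent.H65.MonsterFive (negEl)

attribute [local irreducible] Cfsg.Agent.H95.UFourThree.u43Chain

/-- A non-zero invariant subgroup of the model space is everything. -/
theorem invariant_eq_top {W : AddSubgroup Vec} (hK : ∀ k ∈ Kl, ∀ u ∈ W, k u ∈ W)
    (hne : ∃ u ∈ W, u ≠ 0) (u : Vec) : u ∈ W := by
  obtain ⟨w, hw, hwu⟩ := exists_smul_mem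
  have hω : ∀ x ∈ W, ω₄ • x ∈ W := fun x hx => by rw [← hwu]; exact hK w hw x hx
  have hcases : ∀ c : K4, c = 0 ∨ c = 1 ∨ c = ω₄ ∨ c = ω₄ * ω₄ := by decide +kernel
  have hsm : ∀ (c : K4), ∀ x ∈ W, c • x ∈ W := by
    intro c x hx
    rcases hcases c with rfl | rfl | rfl | rfl
    · rw [zero_smul]; exact W.zero_mem
    · rwa [one_smul]
    · exact hω x hx
    · rw [mul_smul]; exact hω _ (hω x hx)
  have hd : ∀ (d : Vec), (∏ c, d c = 1) → ∀ x ∈ W, (fun i => d i * x i) ∈ W := by
    intro d hd x hx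
    have e : lin (diagG d hd) x = fun i => d i * x i := by
      rw [lin_apply, ap_def, diagG, mat_monoG, mono_eq_diagonal]
      funext i
      rw [Matrix.mulVec_diagonal]
    rw [← e]
    exact hK _ (Subgroup.mem_map_of_mem lin (D_le_K (diagG_mem d hd))) x hx
  obtain ⟨x, hx, hx0⟩ := hne
  obtain ⟨r, hr⟩ : ∃ r, x r ≠ 0 := Function.ne_iff.1 hx0
  obtain ⟨c, c', hrc, hrc', hcc'⟩ : ∃ c c' : Fin 6, r ≠ c ∧ r ≠ c' ∧ c ≠ c' :=
    (by decide : ∀ i : Fin 6, ∃ j k : Fin 6, i ≠ j ∧ i ≠ k ∧ j ≠ k) r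
  let dd : Fin 6 → Vec := fun j => Function.update (Function.update (fun _ => 1) r ω₄) j (ω₄ * ω₄)
  have hdd : ∀ j, r ≠ j → ∏ i, dd j i = 1 := by
    have : ∀ r c : Fin 6, r ≠ c → ∏ i, Function.update
        (Function.update (fun _ => (1 : K4)) r ω₄) c (ω₄ * ω₄) i = 1 := by decide +kernel
    exact fun j hj => this r j hj
  let D : Fin 6 → Vec → Vec := fun j y => (fun i => dd j i * y i) + y
  have hD : ∀ j, r ≠ j → ∀ y ∈ W, D j y ∈ W := fun j hj y hy => W.add_mem (hd _ (hdd j hj) y hy) hy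
  have hy : D c' (D c x) = (ω₄ * x r) • eb r := by
    funext i
    show dd c' i * (dd c i * x i + x i) + (dd c i * x i + x i) = (ω₄ * x r) * (Pi.single r (1 : K4) : Vec) i
    by_cases hi : i = r
    · subst hi
      have e1 : ∀ j, i ≠ j → dd j i = ω₄ := fun j hj => by
        show Function.update _ j _ i = _
        rw [Function.update_of_ne hj, Function.update_self]
      rw [e1 c' hrc', e1 c hrc, Pi.single_eq_same, mul_one]
      have key : ∀ a : K4, ω₄ * (ω₄ * a + a) + (ω₄ * a + a) = ω₄ * a := by decide +kernel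
      exact key _
    · rw [Pi.single_eq_of_ne hi, mul_zero]
      by_cases hic : i = c
      · subst hic
        have e2 : dd c' i = 1 := by
          show Function.update _ c' _ i = _
          rw [Function.update_of_ne hcc', Function.update_of_ne hi]
        rw [e2, one_mul]
        have key : ∀ a : K4, a + a = 0 := by decide +kernel
        exact key _
      · have e2 : dd c i = 1 := by
          show Function.update _ c _ i = _
          rw [Function.update_of_ne hic, Function.update_of_ne hi]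
        rw [e2, one_mul]
        have key : ∀ a b : K4, b * (a + a) + (a + a) = 0 := by decide +kernel
        exact key _ _
  have hm : (ω₄ * x r) • eb r ∈ W := hy ▸ hD c' hrc' _ (hD c hrc x hx)
  have her : eb r ∈ W := by
    have key : ∀ a : K4, a ≠ 0 → ∃ b : K4, b * (ω₄ * a) = 1 := by decide +kernel
    obtain ⟨b, hb⟩ := key _ hr
    have := hsm b _ hm
    rwa [smul_smul, hb, one_smul] at this
  have hall : ∀ i, eb i ∈ W := by
    intro i
    obtain ⟨π, hπ, hπi⟩ := even_carrier i
    obtain ⟨π', hπ', hπr⟩ := even_carrier r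
    have hp : Equiv.Perm.sign (π * π'⁻¹) = 1 := by rw [map_mul, map_inv, hπ, hπ', inv_one, mul_one]
    have h := hK _ (Subgroup.mem_map_of_mem lin (pm_even_mem hp)) _ her
    have hir : (π * π'⁻¹) r = i := by
      rw [Equiv.Perm.mul_apply]
      rw [show π'⁻¹ r = 0 from π'.symm_apply_eq.2 hπr.symm]
      exact hπi
    rwa [lin_apply, ap_def, mat_pmG, eb, mono_mulVec_single, one_mul, hir] at h
  rw [vec_expand u]
  repeat' apply W.add_mem
  all_goals exact hsm _ _ (hall _)

/-- An odd order image of the centraliser is trivial. -/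
theorem cent_hom_odd {A : Type*} [Group A] [Finite A] (hA : Odd (Nat.card A)) (π : cent →* A) :
    π = 1 := by
  classical
  set A0 := π.range with hA0def
  let ρ : cent →* A0 := π.rangeRestrict
  have hρ : Function.Surjective ρ := π.rangeRestrict_surjective
  have hA0 : Odd (Nat.card A0) := hA.of_dvd_nat (Subgroup.card_subgroup_dvd_card A0)
  have hneg : ρ ⟨negEl, negEl_mem⟩ = 1 := by
    have h2 : (⟨negEl, negEl_mem⟩ : cent) ^ 2 = 1 := Subtype.ext (by
      rw [SubgroupClass.coe_pow, pow_two]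
      refine co0_ext fun v => ?_
      show (Cfsg.Agent.H65.MonsterFive.negEl * Cfsg.Agent.H65.MonsterFive.negEl) • v = (1 : Co0) • v
      rw [mul_smul, Cfsg.Agent.H65.MonsterFive.negEl_smul, Cfsg.Agent.H65.MonsterFive.negEl_smul, neg_neg,
        one_smul])
    refine orderOf_eq_one_iff.1 (Nat.eq_one_of_dvd_coprimes
      (Nat.coprime_two_left.2 hA0 : Nat.Coprime 2 (Nat.card A0)) ?_ (orderOf_dvd_natCard _))
    exact orderOf_dvd_of_pow_eq_one (by rw [← map_pow, h2, map_one])
  set t := ρ ⟨three, three_mem⟩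
  have htc : t ∈ Subgroup.center A0 := by
    refine Subgroup.mem_center_iff.2 fun a => ?_
    obtain ⟨δ, rfl⟩ := hρ a
    rw [← map_mul, ← map_mul]
    exact congrArg ρ (Subtype.ext (Subgroup.mem_centralizer_singleton_iff.1 δ.2))
  set T := Subgroup.zpowers t
  haveI hTn : T.Normal := by
    refine ⟨fun a ha g => ?_⟩
    rw [Subgroup.mem_center_iff.1 ((Subgroup.zpowers_le.2 htc) ha) g, mul_inv_cancel_right]
    exact ha
  let σ : cent →* A0 ⧸ T := (QuotientGroup.mk' T).comp ρ
  have hker : toIm.ker ≤ σ.ker := by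
    intro g hg
    have hg' : g ∈ Subgroup.zpowers kerEl := by
      rw [← cent_facts.2, MonoidHom.mem_ker]
      exact congrArg Subtype.val (MonoidHom.mem_ker.1 hg)
    refine (Subgroup.zpowers_le.2 ?_) hg'
    show QuotientGroup.mk (ρ kerEl) = 1
    rw [kerEl, map_mul, hneg, one_mul, QuotientGroup.eq_one_iff]
    exact Subgroup.mem_zpowers t
  let σI : Im →* A0 ⧸ T := toIm.liftOfSurjective toIm_surjective ⟨σ, hker⟩
  have hσI : ∀ g, σI (toIm g) = σ g := fun g => MonoidHom.liftOfRightInverse_comp_apply _ _ _ _ g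
  have hQodd : Odd (Nat.card (A0 ⧸ T)) := hA0.of_dvd_nat T.card_quotient_dvd_card
  have hKI : ∀ k : KI, σI k = 1 := by
    obtain ⟨F, iF, iFt, h9, π0, hπ0s, hπ0⟩ := exists_quot
    haveI := Cfsg.Agent.Unitary.isSimpleGroup_PSU (n := 4) (F := F) (q := 3)
      (by rw [h9]; norm_num) (by norm_num) (by simp)
    let χ : KI →* A0 ⧸ T := σI.comp KI.subtype
    have hk0 : Nat.card π0.ker = 3 := by
      have : π0.ker.map KI.subtype = NI := by
        ext x
        constructor
        · rintro ⟨k, hk, rfl⟩; exact (hπ0 k).1 hk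
        · intro hx
          exact ⟨⟨x, NI_le hx⟩, (hπ0 _).2 hx, rfl⟩
      refine Eq.trans ?_ card_NI
      rw [← this, Subgroup.card_map_of_injective Subtype.val_injective]
    haveI hn : (χ.ker.map π0).Normal := Subgroup.Normal.map inferInstance _ hπ0s
    rcases IsSimpleGroup.eq_bot_or_eq_top_of_normal (χ.ker.map π0) hn with h | h
    · exfalso
      have hle : χ.ker ≤ π0.ker := fun k hk => MonoidHom.mem_ker.2 (by
        have hm : π0 k ∈ χ.ker.map π0 := ⟨k, hk, rfl⟩
        rwa [h, Subgroup.mem_bot] at hm)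
      have hd := Subgroup.card_dvd_of_le hle
      rw [hk0] at hd
      have hc := χ.ker.card_mul_index
      rw [Subgroup.index_ker, show Nat.card KI = Nat.card Kl from
        Nat.card_congr (Subgroup.subgroupOfEquivOfLe Kl_le_Im).toEquiv, card_Kl] at hc
      have hr : Odd (Nat.card χ.range) := hQodd.of_dvd_nat (Subgroup.card_subgroup_dvd_card _)
      obtain ⟨m, hm⟩ := hr
      rcases (Nat.dvd_prime Nat.prime_three).1 hd with h1 | h1 <;> rw [h1] at hc <;> omega
    · have hab : ∀ a c : KI, χ (a * c * a⁻¹ * c⁻¹) = 1 := by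
        have hz : ∀ a : KI, ∃ n : KI, π0 n = 1 ∧ χ a = χ n := by
          intro a
          obtain ⟨k, hk, hka⟩ : π0 a ∈ χ.ker.map π0 := h ▸ Subgroup.mem_top _
          refine ⟨k⁻¹ * a, by rw [map_mul, map_inv, hka, inv_mul_cancel], ?_⟩
          rw [map_mul, map_inv, MonoidHom.mem_ker.1 hk, inv_one, one_mul]
        intro a c
        obtain ⟨n, hn1, hna⟩ := hz a
        obtain ⟨m, -, hmc⟩ := hz c
        obtain ⟨n', hn', e⟩ := (hπ0 n).1 hn1
        have hcn : n ∈ Subgroup.center KI := (Subtype.ext e : n' = n) ▸ hn'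
        rw [map_mul, map_mul, map_mul, map_inv, map_inv, hna, hmc, ← map_mul,
          ← Subgroup.mem_center_iff.1 hcn m, map_mul, mul_inv_cancel_right, mul_inv_cancel]
      intro k
      have hperf : _root_.commutator ↥KI = ⊤ := by
        let eK : ↥KI ≃* ↥Kl := Subgroup.subgroupOfEquivOfLe Kl_le_Im
        have h := congrArg (Subgroup.map eK.symm.toMonoidHom) commutator_Kl
        rw [_root_.commutator_def, Subgroup.map_commutator,
          Subgroup.map_top_of_surjective _ eK.symm.surjective, ← _root_.commutator_def] at h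
        exact h
      have hle : _root_.commutator ↥KI ≤ χ.ker := by
        rw [_root_.commutator_def]
        refine Subgroup.commutator_le.2 fun a _ c _ => MonoidHom.mem_ker.2 ?_
        rw [commutatorElement_def]
        exact hab a c
      exact MonoidHom.mem_ker.1 (hle (hperf ▸ Subgroup.mem_top k))
  have hσ1 : ∀ g, σ g = 1 := by
    intro g
    rw [← hσI]
    have h2 : toIm g * toIm g ∈ KI := (Subgroup.mul_mem_iff_of_index_two KI_index).2 Iff.rfl
    have hsq : σI (toIm g) ^ 2 = 1 := by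
      rw [pow_two, ← map_mul]
      exact hKI ⟨_, h2⟩
    exact orderOf_eq_one_iff.1 (Nat.eq_one_of_dvd_coprimes
      (Nat.coprime_two_left.2 hQodd : Nat.Coprime 2 (Nat.card (A0 ⧸ T)))
      (orderOf_dvd_of_pow_eq_one hsq) (orderOf_dvd_natCard _))
  have hallT : ∀ a : A0, a ∈ T := fun a => by
    obtain ⟨g, rfl⟩ := hρ a
    exact (QuotientGroup.eq_one_iff _).1 (hσ1 g)
  have hcommA : ∀ a c : A0, a * c = c * a := fun a c =>
    (Subgroup.mem_center_iff.1 ((Subgroup.zpowers_le.2 htc) (hallT a)) c).symm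
  have ht1 : t = 1 := by
    obtain ⟨x, hx, y, hy, hxy⟩ := exists_comm
    have e1 : ρ (⟨x, hx⟩ * ⟨y, hy⟩ * ⟨x, hx⟩⁻¹ * ⟨y, hy⟩⁻¹) = 1 := by
      rw [map_mul, map_mul, map_mul, map_inv, map_inv, hcommA (ρ ⟨x, hx⟩), mul_inv_cancel_right,
        mul_inv_cancel]
    rcases hxy with h | h
    · rwa [show (⟨x, hx⟩ : cent) * ⟨y, hy⟩ * ⟨x, hx⟩⁻¹ * ⟨y, hy⟩⁻¹ = ⟨three, three_mem⟩ from
        Subtype.ext h] at e1
    · rw [show (⟨x, hx⟩ : cent) * ⟨y, hy⟩ * ⟨x, hx⟩⁻¹ * ⟨y, hy⟩⁻¹ = ⟨three, three_mem⟩⁻¹ from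
        Subtype.ext h, map_inv, inv_eq_one] at e1
      exact e1
  refine MonoidHom.ext fun g => ?_
  have hg := hallT (ρ g)
  rw [show T = Subgroup.zpowers t from rfl, ht1, Subgroup.zpowers_one_eq_bot, Subgroup.mem_bot] at hg
  exact congrArg Subtype.val hg

end Cfsg.Agent.H89.MonsterFi24
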