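import Cfsg.Agent.H89.MonsterFi24.Group
import Cfsg.Agent.H89.MonsterFi24.Model

/-!
In a group of Monster type: the fixed part of the extraspecial group is irreducible under the centraliser
of the three-element, and that centraliser has no non-trivial image of odd order.
-/

set_option autoImplicit false
set_option linter.style.haveILetI false
set_option maxRecDepth 100000

namespace Cfsg.Agent.H89.MonsterFi24

open Cfsg Cfsg.Agent.Golay Cfsg.Agent.H92.LeechTwo Cfsg.Agent.H92.MonsterQ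
open Cfsg.Agent.H65.MonsterFive (phi phi_eq_one qm_facts mem_centralizer_zpowers)
open Cfsg.Agent.H41.SUSix (Vec)
open Cfsg.Agent.H89.MonsterThree

variable {G : Type*} [Group G] [Finite G] {z : G}
  {Q : Subgroup (Subgroup.centralizer ({z} : Set G))} [Q.Normal]
  {e : (Subgroup.centralizer ({z} : Set G)) ⧸ Q ≃* Spor.Co1}
  {ψ : leechLattice → Q ⧸ Subgroup.center Q}

theorem fixed_class (S : Setting z Q e ψ) {b : G} (hbz : b ∈ Subgroup.centralizer ({z} : Set G))
    (hbe : phi e ⟨b, hbz⟩ = QuotientGroup.mk three) {q : Q} (hq : vG q * b = b * vG q)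
    {v : leechLattice} (hv : ψ v = QuotientGroup.mk q) : Cg (three • v) v := by
  refine (psi_cg S).1 ?_
  have e1 := psi_smul S (g := three) (h := ⟨b, hbz⟩) hbe.symm hv
  rw [show conjQ (⟨b, hbz⟩ : Subgroup.centralizer ({z} : Set G)) q = q from vG_injective (by
    show b * vG q * b⁻¹ = vG q
    rw [← hq, mul_inv_cancel_right]), ← hv] at e1
  exact e1

/-- The fixed part is irreducible. -/
theorem fixed_normal (S : Setting z Q e ψ) {b : G} (hb3 : orderOf b = 3)
    (hbz : b ∈ Subgroup.centralizer ({z} : Set G)) (hbe : phi e ⟨b, hbz⟩ = QuotientGroup.mk three)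
    {W : Subgroup G} (hWQ : W ≤ Q.map (Subgroup.centralizer ({z} : Set G)).subtype)
    (hWb : ∀ w ∈ W, w * b = b * w) (hzW : z ∈ W)
    (hinv : ∀ c ∈ Subgroup.centralizer ({z} : Set G), c * b = b * c → ∀ w ∈ W, c * w * c⁻¹ ∈ W)
    (hne : ∃ w ∈ W, w ≠ 1 ∧ w ≠ z) :
    ∀ q ∈ Q.map (Subgroup.centralizer ({z} : Set G)).subtype, q * b = b * q → q ∈ W := by
  classical
  obtain ⟨zQ, hzv, hz1, -, hZ⟩ := exists_zQ S
  let WQ : Subgroup Q := W.comap
    ((Subgroup.centralizer ({z} : Set G)).subtype.comp Q.subtype)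
  have hWQmem : ∀ q : Q, q ∈ WQ ↔ vG q ∈ W := fun q => Iff.rfl
  have hcenW : Subgroup.center Q ≤ WQ := by
    intro c hc
    rw [hWQmem]
    rcases (hZ c).1 hc with h | h <;> rw [h]
    · exact W.one_mem
    · rw [hzv]; exact hzW
  set WV : Subgroup (Q ⧸ Subgroup.center Q) := WQ.map (QuotientGroup.mk' _) with hWV
  have hback : ∀ q : Q, (QuotientGroup.mk q : Q ⧸ Subgroup.center Q) ∈ WV → vG q ∈ W := by
    rintro q ⟨w, hw, hwq⟩
    have h1 : w⁻¹ * q ∈ Subgroup.center Q := QuotientGroup.eq.1 hwq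
    have := WQ.mul_mem hw (hcenW h1)
    rwa [mul_inv_cancel_left] at this
  let U : AddSubgroup Vec :=
    { carrier := {u | ψ (Rv u) ∈ WV}
      zero_mem' := by
        have hf : Cg (three • (0 : leechLattice)) 0 := by
          rw [co0_smul_zero]
          exact Cg.refl _
        have e1 := (psi_cg S).2 (cg_Rv hf)
        rw [kv_zero, psi_zero S] at e1
        show ψ (Rv 0) ∈ WV
        rw [← e1]
        exact WV.one_mem
      add_mem' := by
        intro u v hu hv
        have hf : Cg (three • (Rv u + Rv v)) (Rv u + Rv v) := by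
          rw [co0_smul_add, three_Rv, three_Rv]
          exact Cg.refl _
        have e1 := (psi_cg S).2 (cg_Rv hf)
        rw [kv_add, kv_Rv, kv_Rv, S.iso.1] at e1
        show ψ (Rv (u + v)) ∈ WV
        rw [← e1]
        exact WV.mul_mem hu hv
      neg_mem' := by
        intro u hu
        have hneg : -u = u := neg_eq_of_add_eq_zero_left (Cfsg.Agent.H89.LFiFour.vec_add_self u)
        rw [hneg]
        exact hu }
  have hK : ∀ k ∈ Cfsg.Agent.H41.LFi.Kl, ∀ u ∈ U, k u ∈ U := by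
    intro k hk u hu
    obtain ⟨δ, rfl⟩ := Kl_le hk
    obtain ⟨c, hc, hce, hcb⟩ := lift_cent S hb3 hbz hbe δ.2
    obtain ⟨q, hq⟩ := QuotientGroup.mk_surjective (ψ (Rv u))
    show ψ (Rv (kv (δ.1 • Rv u))) ∈ WV
    rw [← (psi_cg S).2 (cg_Rv (class_fixed δ.2 (Rv_fixed u))),
      psi_smul S (g := δ.1) (h := ⟨c, hc⟩) hce.symm hq.symm]
    have hu' : vG q ∈ W := hback q (by rw [hq]; exact hu)
    exact ⟨conjQ ⟨c, hc⟩ q, hinv c hc hcb _ hu', rfl⟩
  have hne' : ∃ u ∈ U, u ≠ 0 := by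
    obtain ⟨w, hw, hw1, hwz⟩ := hne
    obtain ⟨c, hc, hcw⟩ := hWQ hw
    set q : Q := ⟨c, hc⟩
    have hqv : vG q = w := hcw
    obtain ⟨v, hv⟩ := S.iso.2.1 (QuotientGroup.mk q)
    have hf := fixed_class S hbz hbe (q := q) (by rw [hqv]; exact hWb w hw) hv
    refine ⟨kv v, ?_, fun h0 => ?_⟩
    · show ψ (Rv (kv v)) ∈ WV
      rw [← (psi_cg S).2 (cg_Rv hf), hv]
      exact ⟨q, by rw [SetLike.mem_coe, hWQmem, hqv]; exact hw, rfl⟩
    · have hf0 : Cg (three • (0 : leechLattice)) 0 := by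
        rw [co0_smul_zero]
        exact Cg.refl _
      have e2 := (psi_cg S).2 (cg_Rv hf0)
      have e1 := (psi_cg S).2 (cg_Rv hf)
      rw [h0, ← kv_zero, ← e2, psi_zero S, hv] at e1
      rcases (hZ q).1 ((QuotientGroup.eq_one_iff q).1 e1) with h | h
      · exact hw1 (by rw [← hqv, h]; rfl)
      · exact hwz (by rw [← hqv, h, hzv])
  rintro _ ⟨c, hc, rfl⟩ hcb
  set q : Q := ⟨c, hc⟩
  obtain ⟨v, hv⟩ := S.iso.2.1 (QuotientGroup.mk q)
  have hf := fixed_class S hbz hbe (q := q) hcb hv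
  refine hback q ?_
  rw [← hv, (psi_cg S).2 (cg_Rv hf)]
  exact invariant_eq_top hK hne' _

/-- The centraliser of the pair has no non-trivial image of odd order. -/
theorem centraliser_hom_odd (S : Setting z Q e ψ) {b : G} (hb3 : orderOf b = 3)
    (hbz : b ∈ Subgroup.centralizer ({z} : Set G)) (hbe : phi e ⟨b, hbz⟩ = QuotientGroup.mk three)
    {A : Type*} [Group A] [Finite A] (hA : Odd (Nat.card A))
    (π : ↥(Subgroup.centralizer ({z} : Set G) ⊓ Subgroup.centralizer (Subgroup.zpowers b : Set G)) →* A) :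
    π = 1 := by
  classical
  obtain ⟨-, hQcard, -, -, -⟩ := qm_facts S
  revert π
  set K := Subgroup.centralizer ({z} : Set G) ⊓ Subgroup.centralizer (Subgroup.zpowers b : Set G) with hKdef
  intro π
  let φK : K →* Spor.Co1 := (phi e).comp (Subgroup.inclusion (inf_le_left : K ≤ _))
  have hQ1 : ∀ k : K, φK k = 1 → π k = 1 := by
    intro k hk
    have hkQ : (k : G) ∈ Q.map (Subgroup.centralizer ({z} : Set G)).subtype :=
      ⟨_, phi_eq_one.1 hk, rfl⟩
    have h2 : orderOf (π k) ∣ 2 ^ 25 := by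
      refine (orderOf_map_dvd π k).trans ?_
      rw [← Subgroup.orderOf_coe, ← hQcard]
      exact Subgroup.orderOf_dvd_natCard _ hkQ
    exact orderOf_eq_one_iff.1 (Nat.eq_one_of_dvd_coprimes
      ((Nat.coprime_two_left.2 hA).pow_left 25) h2 (orderOf_dvd_natCard _))
  have heq : ∀ k k' : K, φK k = φK k' → π k = π k' := by
    intro k k' h
    have := hQ1 (k⁻¹ * k') (by rw [map_mul, map_inv, h, inv_mul_cancel])
    rwa [map_mul, map_inv, inv_mul_eq_one] at this
  have hlift : ∀ δ : cent, ∃ k : K, φK k = QuotientGroup.mk δ.1 := by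
    intro δ
    obtain ⟨c, hc, hce, hcb⟩ := lift_cent S hb3 hbz hbe δ.2
    exact ⟨⟨c, hc, mem_centralizer_zpowers.2 hcb⟩, hce⟩
  choose kf hkf using hlift
  let π' : cent →* A := MonoidHom.mk' (fun δ => π (kf δ)) fun δ δ' => by
    rw [← map_mul]
    refine heq _ _ ?_
    rw [map_mul, hkf, hkf, hkf]
    rfl
  have h1 := cent_hom_odd hA π'
  refine MonoidHom.ext fun k => ?_
  obtain ⟨γ, hγ⟩ := QuotientGroup.mk_surjective (φK k)
  have hbK : b ∈ K := ⟨hbz, mem_centralizer_zpowers.2 rfl⟩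
  have hγc : γ ∈ cent := by
    refine cent_of_commute ?_
    rw [hγ, ← hbe, show phi e ⟨b, hbz⟩ = φK ⟨b, hbK⟩ from rfl, ← map_mul, ← map_mul]
    exact congrArg φK (Subtype.ext (mem_centralizer_zpowers.1 k.2.2))
  rw [heq k (kf ⟨γ, hγc⟩) (by rw [hkf]; exact hγ.symm)]
  exact DFunLike.congr_fun h1 ⟨γ, hγc⟩

end Cfsg.Agent.H89.MonsterFi24
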