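import Cfsg.Agent.Components.TTPrimitive
import Cfsg.Agent.Components.TTZStar
import Cfsg.Agent.Components.PLocal
import Cfsg.Agent.S5361
import Cfsg.Prelude.Def_MonsterType

/-!
A class of 3-transpositions of type M(24) in a group with a subgroup of index two that has an involution
centraliser with extraspecial generalised Fitting subgroup, irreducibly acted on, is primitive.
-/

set_option autoImplicit false
set_option linter.style.haveILetI false
set_option maxHeartbeats 1000000

namespace Cfsg.Agent.H89.MonsterFi24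

open Cfsg Cfsg.Agent.Components Cfsg.Agent.H44

universe u

variable {X : Type u} [Group X] [Finite X]

theorem exists_comm_eq {C : Type u} [Group C] {R : Subgroup C} (hR : IsExtraspecial 2 R) {c : C}
    (hc : c ∈ R) (hc1 : c ≠ 1) (hcen : ∀ r ∈ R, r * c = c * r) {w : C} (hw : w ∈ R)
    (h1 : w ≠ 1) (h2 : w ≠ c) : ∃ r ∈ R, r * w * r⁻¹ * w⁻¹ = c := by
  obtain ⟨u, -, huniq⟩ := (Nat.card_eq_two_iff' (1 : Subgroup.center R)).1 hR.2
  have hcc : (⟨c, hc⟩ : R) ∈ Subgroup.center R :=
    Subgroup.mem_center_iff.2 fun r => Subtype.ext (hcen _ r.2)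
  have hone : ∀ a : Subgroup.center R, a = 1 ∨ ((a : R) : C) = c := by
    intro a
    by_cases ha : a = 1
    · exact Or.inl ha
    · exact Or.inr (congrArg (fun v : Subgroup.center R => ((v : R) : C))
        ((huniq a ha).trans (huniq ⟨_, hcc⟩ fun e => hc1
          (congrArg (fun v : Subgroup.center R => ((v : R) : C)) e)).symm))
  have hwc : (⟨w, hw⟩ : R) ∉ Subgroup.center R := fun h => by
    rcases hone ⟨_, h⟩ with e | e
    · exact h1 (congrArg (fun v : Subgroup.center R => ((v : R) : C)) e)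
    · exact h2 e
  rw [Subgroup.mem_center_iff] at hwc
  push Not at hwc
  obtain ⟨r, hr⟩ := hwc
  refine ⟨r, r.2, ?_⟩
  have hm : r * ⟨w, hw⟩ * r⁻¹ * (⟨w, hw⟩ : R)⁻¹ ∈ Subgroup.center R := by
    rw [← hR.1.2.2, _root_.commutator_def]
    exact Subgroup.commutator_mem_commutator (Subgroup.mem_top r) (Subgroup.mem_top _)
  rcases hone ⟨_, hm⟩ with e | e
  · exact absurd (mul_inv_eq_iff_eq_mul.1 (mul_inv_eq_one.1 (congrArg Subtype.val e))) hr
  · exact e

/-- An element commuting with the fixed part is the involution. -/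
theorem eq_of_cent {G : Type u} [Group G] [Finite G] {z : G} (hz : orderOf z = 2)
    {R : Subgroup (Subgroup.centralizer ({z} : Set G))}
    (hF : generalizedFittingSubgroup (Subgroup.centralizer ({z} : Set G)) = R) (hR : IsExtraspecial 2 R)
    {y : G} (hyz : Commute y z) (hyR : ∀ r ∈ R, Commute (r : G) y) (hy1 : y ≠ 1) : y = z := by
  set yc : (Subgroup.centralizer ({z} : Set G)) := ⟨y, Subgroup.mem_centralizer_singleton_iff.2 hyz.eq⟩
  set zc : (Subgroup.centralizer ({z} : Set G)) := ⟨z, Subgroup.mem_centralizer_singleton_iff.2 rfl⟩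
  have hzR : zc ∈ R := by
    rw [← hF]
    exact centralizer_genFitting_le fun r _ => Subtype.ext (Subgroup.mem_centralizer_singleton_iff.1 r.2)
  have hyRm : yc ∈ R := by
    rw [← hF]
    exact centralizer_genFitting_le fun r hr => Subtype.ext (hyR r (hF ▸ hr))
  by_contra hne
  obtain ⟨r, hr, e⟩ := exists_comm_eq hR hzR (fun e => by
      have h1 : z = 1 := congrArg Subtype.val e
      rw [h1, orderOf_one] at hz
      norm_num at hz)
    (fun r _ => Subtype.ext (Subgroup.mem_centralizer_singleton_iff.1 r.2)) hyRm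
    (fun e => hy1 (congrArg Subtype.val e)) (fun e => hne (congrArg Subtype.val e))
  have e' : (r : G) * y * (r : G)⁻¹ * y⁻¹ = z := congrArg Subtype.val e
  rw [(hyR r hr).eq, mul_inv_cancel_right, mul_inv_cancel] at e'
  rw [← e', orderOf_one] at hz
  norm_num at hz

/-- Without fixed points an involution inverts. -/
theorem inverts_of_fpf {N : Subgroup X} [hn : N.Normal] {t : X} (ht : t * t = 1)
    (hfp : ∀ w ∈ N, t * w = w * t → w = 1) : ∀ w ∈ N, t * w * t⁻¹ = w⁻¹ := by
  have hti : t⁻¹ = t := inv_eq_of_mul_eq_one_left ht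
  let f : N → N := fun x : N => (⟨(x : X)⁻¹ * (t * x * t⁻¹), mul_mem (inv_mem x.2) (hn.conj_mem _ x.2 t)⟩ : N)
  have hinj : Function.Injective f := by
    intro x y h
    have h' : (x : X)⁻¹ * (t * x * t⁻¹) = (y : X)⁻¹ * (t * y * t⁻¹) := congrArg Subtype.val h
    have h1 : t * ((y : X) * (x : X)⁻¹) * t⁻¹ = (y : X) * (x : X)⁻¹ := by
      calc t * ((y : X) * (x : X)⁻¹) * t⁻¹
          = (y : X) * ((y : X)⁻¹ * (t * y * t⁻¹)) * (t * x * t⁻¹)⁻¹ := by group
        _ = (y : X) * (x : X)⁻¹ := by rw [← h']; group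
    exact Subtype.ext (mul_inv_eq_one.1 (hfp _ (mul_mem y.2 (inv_mem x.2))
      (mul_inv_eq_iff_eq_mul.1 h1))).symm
  intro w hw
  obtain ⟨x, hx⟩ := Finite.surjective_of_injective hinj ⟨w, hw⟩
  have hx' : (x : X)⁻¹ * (t * x * t⁻¹) = w := congrArg Subtype.val hx
  rw [← hx', hti]
  calc t * ((x : X)⁻¹ * (t * x * t)) * t = t * (x : X)⁻¹ * t * (x * (t * t)) := by group
    _ = t * (x : X)⁻¹ * t * x := by rw [ht, mul_one]
    _ = ((x : X)⁻¹ * (t * x * t))⁻¹ := by
      rw [mul_inv_rev, mul_inv_rev, mul_inv_rev, inv_inv, hti]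
      group

/-- A normal 3-subgroup is trivial. -/
theorem three_core_eq_bot {G₀ : Subgroup X} (hidx : G₀.index = 2) {z : G₀} (hz : orderOf z = 2)
    {R : Subgroup (Subgroup.centralizer ({z} : Set G₀))}
    (hF : generalizedFittingSubgroup (Subgroup.centralizer ({z} : Set G₀)) = R) (hR : IsExtraspecial 2 R)
    {s : Subgroup.centralizer ({z} : Set G₀)} (hs : s ∈ R) (hsc : IsConj z s.1) (hsz : s.1 ≠ z) :
    pCore 3 X = ⊥ := by
  classical
  haveI : Fact (Nat.Prime 3) := ⟨Nat.prime_three⟩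
  haveI : Fact (Nat.Prime 2) := ⟨Nat.prime_two⟩
  have hP : IsPGroup 3 (pCore 3 X) := Cfsg.Agent.Cores.pCore_isPGroup
  set P := pCore 3 X
  haveI hPn : P.Normal := inferInstanceAs (pCore 3 X).Normal
  have hPG : P ≤ G₀ := by
    intro x hx
    obtain ⟨k, hk⟩ := hP ⟨x, hx⟩
    have hk' : x ^ 3 ^ k = 1 := congrArg Subtype.val hk
    obtain ⟨m, hm⟩ : Odd (3 ^ k) := Odd.pow (by decide)
    have h2 : x * x ∈ G₀ := (Subgroup.mul_mem_iff_of_index_two hidx).2 Iff.rfl
    have hxe : x = (x * x) ^ (m + 1) := by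
      rw [← pow_two, ← pow_mul, show 2 * (m + 1) = 3 ^ k + 1 by omega, pow_succ, hk', one_mul]
    rw [hxe]
    exact pow_mem h2 _
  let ι : (Subgroup.centralizer ({z} : Set G₀)) →* X := G₀.subtype.comp (Subgroup.centralizer ({z} : Set G₀)).subtype
  have hfix : ∀ w ∈ P, (z : X) * w = w * z → w = 1 := by
    intro w hw hc
    set wc : (Subgroup.centralizer ({z} : Set G₀)) := ⟨⟨w, hPG hw⟩, Subgroup.mem_centralizer_singleton_iff.2 (Subtype.ext hc.symm)⟩
    haveI : (P.comap ι).Normal := Subgroup.Normal.comap hPn ι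
    have h3 : IsPGroup 3 (P.comap ι) :=
      hP.comap_of_injective (H := P) ι (Subtype.val_injective.comp Subtype.val_injective)
    have hle : P.comap ι ≤ R := hF ▸ (Cfsg.Agent.Cores.le_pCore h3).trans
      ((pCore_le_fitting 3).trans fitting_le_genFitting)
    have hw' : wc ∈ P.comap ι := hw
    have hbot : wc = 1 := orderOf_eq_one_iff.1 (by
      obtain ⟨i, hi⟩ := IsPGroup.iff_orderOf.1 h3 ⟨wc, hw'⟩
      obtain ⟨j, hj⟩ := IsPGroup.iff_orderOf.1 hR.1.1 ⟨wc, hle hw'⟩
      rw [← Subgroup.orderOf_coe] at hi hj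
      refine Nat.eq_one_of_dvd_coprimes ((by norm_num : Nat.Coprime 3 2).pow i j) ?_ ?_
      · rw [← hi]
      · rw [← hj])
    exact congrArg ι hbot
  have hzz : (z : X) * z = 1 := by
    have h := pow_orderOf_eq_one z
    rw [hz, pow_two] at h
    exact congrArg Subtype.val h
  have hinv := inverts_of_fpf (N := P) hzz hfix
  have hall : ∀ g : G₀, ∀ w ∈ P, ((g * z * g⁻¹ : G₀) : X) * w * ((g * z * g⁻¹ : G₀) : X)⁻¹ = w⁻¹ := by
    intro g w hw
    have h := hinv _ (hPn.conj_mem w hw (g : X)⁻¹)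
    simp only [Subgroup.coe_mul, Subgroup.coe_inv]
    calc (g : X) * z * (g : X)⁻¹ * w * ((g : X) * z * (g : X)⁻¹)⁻¹
        = (g : X) * ((z : X) * ((g : X)⁻¹ * w * (g : X)⁻¹⁻¹) * (z : X)⁻¹) * (g : X)⁻¹ := by group
      _ = w⁻¹ := by rw [h]; group
  have hzc : z ∈ (Subgroup.centralizer ({z} : Set G₀)) := Subgroup.mem_centralizer_singleton_iff.2 rfl
  have hzR : (⟨z, hzc⟩ : (Subgroup.centralizer ({z} : Set G₀))) ∈ R := by
    rw [← hF]
    exact centralizer_genFitting_le fun r _ => Subtype.ext (Subgroup.mem_centralizer_singleton_iff.1 r.2)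
  have hs1 : s ≠ 1 := fun e => by
    obtain ⟨g, hg⟩ := isConj_iff.1 hsc
    rw [e, OneMemClass.coe_one, conj_eq_one_iff] at hg
    rw [hg, orderOf_one] at hz
    norm_num at hz
  obtain ⟨r, -, hr⟩ := exists_comm_eq hR hzR (fun e => by
      rw [show z = 1 from congrArg Subtype.val e, orderOf_one] at hz
      norm_num at hz)
    (fun r _ => Subtype.ext (Subgroup.mem_centralizer_singleton_iff.1 r.2)) hs hs1
    (fun e => hsz (congrArg Subtype.val e))
  obtain ⟨g, hg⟩ := isConj_iff.1 hsc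
  have hr' : (r : G₀) * (g * z * g⁻¹) * (r : G₀)⁻¹ = z * (g * z * g⁻¹) := by
    rw [hg]
    exact mul_inv_eq_iff_eq_mul.1 (congrArg Subtype.val hr)
  rw [Subgroup.eq_bot_iff_forall]
  intro w hw
  have h1 := hall ((r : G₀) * g) w hw
  rw [show (r : G₀) * g * z * ((r : G₀) * g)⁻¹ = z * (g * z * g⁻¹) by rw [← hr']; group] at h1
  have h2 := hinv _ hw
  have h3 := hall g w hw
  have h4 : w = w⁻¹ := by
    rw [Subgroup.coe_mul] at h1
    calc w = (z : X) * w⁻¹ * (z : X)⁻¹ := by rw [hinv _ (inv_mem hw), inv_inv]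
      _ = (z : X) * (((g * z * g⁻¹ : G₀) : X) * w * ((g * z * g⁻¹ : G₀) : X)⁻¹) * (z : X)⁻¹ := by
          rw [h3]
      _ = w⁻¹ := by rw [← h1]; group
  have ho2 : orderOf w ∣ 2 := orderOf_dvd_of_pow_eq_one (by
    rw [pow_two]
    exact eq_inv_iff_mul_eq_one.1 h4)
  obtain ⟨k, hk⟩ := hP ⟨w, hw⟩
  exact orderOf_eq_one_iff.1 (Nat.eq_one_of_dvd_coprimes ((by norm_num : Nat.Coprime 2 3).pow_right k)
    ho2 (orderOf_dvd_of_pow_eq_one (congrArg Subtype.val hk)))

/-- A normal 2-subgroup is trivial. -/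
theorem two_core_eq_bot (hZ : Subgroup.center X = ⊥) {G₀ : Subgroup X} (hidx : G₀.index = 2) {z : G₀}
    (hz : orderOf z = 2) {R : Subgroup (Subgroup.centralizer ({z} : Set G₀))}
    (hF : generalizedFittingSubgroup (Subgroup.centralizer ({z} : Set G₀)) = R) (hR : IsExtraspecial 2 R)
    {s : Subgroup.centralizer ({z} : Set G₀)} (hs : s ∈ R) (hsc : IsConj z s.1) (hsz : s.1 ≠ z)
    (hirr : ∀ W : Subgroup (Subgroup.centralizer ({z} : Set G₀)), W.Normal → W ≤ R →
      (∀ h : z ∈ Subgroup.centralizer ({z} : Set G₀), ⟨z, h⟩ ∈ W) →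
      (∃ w ∈ W, (w : G₀) ≠ 1 ∧ (w : G₀) ≠ z) → R ≤ W) :
    pCore 2 X = ⊥ := by
  classical
  haveI : Fact (Nat.Prime 2) := ⟨Nat.prime_two⟩
  haveI hG₀n : G₀.Normal := Subgroup.normal_of_index_eq_two hidx
  have hP : IsPGroup 2 (pCore 2 X) := Cfsg.Agent.Cores.pCore_isPGroup
  set P := pCore 2 X
  haveI hPn : P.Normal := inferInstanceAs (pCore 2 X).Normal
  have hzz : z * z = 1 := by
    have h := pow_orderOf_eq_one z
    rwa [hz, pow_two] at h
  set P' := P.comap G₀.subtype
  have hP' : IsPGroup 2 P' := hP.comap_of_injective _ G₀.subtype_injective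
  haveI hP'n : P'.Normal := hPn.comap G₀.subtype
  have hbot : P' = ⊥ := by
    by_contra hne
    haveI : Nontrivial P' := (Subgroup.nontrivial_iff_ne_bot P').2 hne
    set N := (Subgroup.center P').map P'.subtype
    haveI hNn : N.Normal := by infer_instance
    have hNP : N ≤ P' := Subgroup.map_subtype_le _
    have hNab : ∀ a ∈ N, ∀ c ∈ N, a * c = c * a := by
      rintro _ ⟨a, -, rfl⟩ _ ⟨c, hc, rfl⟩
      exact congrArg Subtype.val (Subgroup.mem_center_iff.1 hc a)
    -- an element of the centre fixed by the involution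
    obtain ⟨y, hyN, hyz, hy1⟩ : ∃ y ∈ N, z * y = y * z ∧ y ≠ 1 := by
      by_contra hcon
      push Not at hcon
      have hinv := inverts_of_fpf (N := N) hzz fun w hw hc => hcon w hw hc
      haveI := hP'.center_nontrivial
      obtain ⟨⟨a, ha⟩, ha1⟩ := exists_ne (1 : Subgroup.center P')
      have haN : (a : G₀) ∈ N := ⟨a, ha, rfl⟩
      have ha1' : (a : G₀) ≠ 1 := fun e => ha1 (Subtype.ext (Subtype.ext e))
      obtain ⟨k, hk⟩ := IsPGroup.iff_orderOf.1 hP' a
      rw [← Subgroup.orderOf_coe] at hk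
      have hk0 : 1 ≤ k := by
        rcases Nat.eq_zero_or_pos k with h | h
        · rw [h, pow_zero, orderOf_eq_one_iff] at hk
          exact absurd hk ha1'
        · exact h
      set w := (a : G₀) ^ 2 ^ (k - 1) with hwdef
      have hw : w ∈ N := pow_mem haN _
      have hw2 : w * w = 1 := by
        rw [← pow_two, hwdef, ← pow_mul, ← pow_succ, show k - 1 + 1 = k by omega, ← hk, pow_orderOf_eq_one]
      have hw1 : w ≠ 1 := fun e => by
        have := orderOf_dvd_of_pow_eq_one e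
        rw [hk] at this
        have := (Nat.pow_dvd_pow_iff_le_right (by norm_num : 1 < 2)).1 this
        omega
      refine hw1 (hcon w hw ?_)
      have h := hinv w hw
      rw [inv_eq_of_mul_eq_one_left hw2] at h
      exact mul_inv_eq_iff_eq_mul.1 h
    set Nc := N.comap (Subgroup.centralizer ({z} : Set G₀)).subtype
    haveI hNcn : Nc.Normal := hNn.comap (Subgroup.centralizer ({z} : Set G₀)).subtype
    have hNc2 : IsPGroup 2 Nc := (hP'.to_le hNP).comap_of_injective _ (Subgroup.centralizer ({z} : Set G₀)).subtype_injective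
    have hNcR : Nc ≤ R := hF ▸ (Cfsg.Agent.Cores.le_pCore hNc2).trans
      ((pCore_le_fitting 2).trans fitting_le_genFitting)
    set zc : (Subgroup.centralizer ({z} : Set G₀)) := ⟨z, Subgroup.mem_centralizer_singleton_iff.2 rfl⟩
    have hzR : zc ∈ R := by
      rw [← hF]
      exact centralizer_genFitting_le fun r _ => Subtype.ext (Subgroup.mem_centralizer_singleton_iff.1 r.2)
    have hzN : z ∈ N := by
      set yc : (Subgroup.centralizer ({z} : Set G₀)) := ⟨y, Subgroup.mem_centralizer_singleton_iff.2 hyz.symm⟩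
      have hyc : yc ∈ Nc := hyN
      by_cases hyeq : y = z
      · exact hyeq ▸ hyN
      obtain ⟨r, -, hr⟩ := exists_comm_eq hR hzR (fun e => by
          rw [show z = 1 from congrArg Subtype.val e, orderOf_one] at hz
          norm_num at hz)
        (fun r _ => Subtype.ext (Subgroup.mem_centralizer_singleton_iff.1 r.2)) (hNcR hyc)
        (fun e => hy1 (congrArg Subtype.val e)) (fun e => hyeq (congrArg Subtype.val e))
      have hm : r * yc * r⁻¹ * yc⁻¹ ∈ Nc := mul_mem (hNcn.conj_mem _ hyc r) (inv_mem hyc)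
      rw [hr] at hm
      exact hm
    obtain ⟨g, hg⟩ := isConj_iff.1 hsc
    have hsN : (s : G₀) ∈ N := hg ▸ hNn.conj_mem z hzN g
    have hs1 : (s : G₀) ≠ 1 := fun e => by
      rw [e, conj_eq_one_iff] at hg
      rw [hg, orderOf_one] at hz
      norm_num at hz
    have hRW := hirr Nc hNcn hNcR (fun _ => hzN) ⟨s, hsN, hs1, hsz⟩
    obtain ⟨r, hr', hr⟩ := exists_comm_eq hR hzR (fun e => by
        rw [show z = 1 from congrArg Subtype.val e, orderOf_one] at hz
        norm_num at hz)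
      (fun r _ => Subtype.ext (Subgroup.mem_centralizer_singleton_iff.1 r.2)) hs
      (fun e => hs1 (congrArg Subtype.val e)) (fun e => hsz (congrArg Subtype.val e))
    have e := congrArg Subtype.val hr
    simp only [Subgroup.coe_mul, Subgroup.coe_inv] at e
    rw [hNab (r : G₀) (hRW hr') (s : G₀) hsN, mul_inv_cancel_right, mul_inv_cancel] at e
    have e' : z = 1 := e.symm
    rw [e', orderOf_one] at hz
    norm_num at hz
  rw [Subgroup.eq_bot_iff_forall]
  intro p hp
  have hpc : p ∈ Subgroup.center X := by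
    refine Subgroup.mem_center_iff.2 fun x => ?_
    have hm : x * p * x⁻¹ * p⁻¹ ∈ P := mul_mem (hPn.conj_mem p hp x) (inv_mem hp)
    have hG : x * p * x⁻¹ * p⁻¹ ∈ G₀ := by
      rw [Subgroup.mul_mem_iff_of_index_two hidx, Subgroup.mul_mem_iff_of_index_two hidx,
        Subgroup.mul_mem_iff_of_index_two hidx]
      simp only [inv_mem_iff]
      by_cases h1 : x ∈ G₀ <;> by_cases h2 : p ∈ G₀ <;> simp [h1, h2]
    have hm' : (⟨_, hG⟩ : G₀) ∈ P' := hm
    rw [hbot, Subgroup.mem_bot] at hm'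
    exact mul_inv_eq_iff_eq_mul.1 (mul_inv_eq_one.1 (congrArg Subtype.val hm'))
  rwa [hZ, Subgroup.mem_bot] at hpc

/-- The commuting graph is connected. -/
theorem connected_of_setting {G₀ : Subgroup X} (hidx : G₀.index = 2) {z : G₀} (hz : orderOf z = 2)
    {R : Subgroup (Subgroup.centralizer ({z} : Set G₀))}
    (hF : generalizedFittingSubgroup (Subgroup.centralizer ({z} : Set G₀)) = R) (hR : IsExtraspecial 2 R)
    (hodd : ∀ (A : Type u) [Group A] [Finite A], Odd (Nat.card A) →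
      ∀ π : Subgroup.centralizer ({z} : Set G₀) →* A, π = 1)
    {E : Set X} (hE : IsThreeTranspositionClass E) :
    (Cfsg.commutingGraph E).Connected := by
  classical
  haveI : Fact (Nat.Prime 2) := ⟨Nat.prime_two⟩
  haveI hG₀n : G₀.Normal := Subgroup.normal_of_index_eq_two hidx
  set Rl := Relation.ReflTransGen (ttAdj E)
  have hsymm : Std.Symm (ttAdj E) := ⟨fun p q h => ⟨h.2.1, h.1, h.2.2.symm⟩⟩
  have rs : ∀ {p q : X}, Rl p q → Rl q p := fun h => Relation.ReflTransGen.stdSymm.symm _ _ h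
  have hconj : ∀ (g : X) {p q : X}, Rl p q → Rl (g * p * g⁻¹) (g * q * g⁻¹) := fun g {p q} h =>
    Relation.ReflTransGen.lift (fun x => g * x * g⁻¹)
      (fun _ _ h => ⟨tt_invariant hE g h.1, tt_invariant hE g h.2.1,
        (commute_conj_iff g _ _).2 h.2.2⟩) _ _ h
  let K : Subgroup X :=
    { carrier := {g | ∀ x ∈ E, Rl x (g * x * g⁻¹)}
      one_mem' := fun x _ => by rw [one_mul, inv_one, mul_one]
      mul_mem' := by
        intro g h hg hh x hx
        rw [show g * h * x * (g * h)⁻¹ = g * (h * x * h⁻¹) * g⁻¹ by group]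
        exact (hh x hx).trans (hg _ (tt_invariant hE h hx))
      inv_mem' := by
        intro g hg x hx
        have h := hg _ (tt_invariant hE g⁻¹ hx)
        rw [show g * (g⁻¹ * x * g⁻¹⁻¹) * g⁻¹ = x by group] at h
        exact rs h }
  haveI hKn : K.Normal := by
    refine ⟨fun k hk g x hx => ?_⟩
    have h := hconj g (hk _ (tt_invariant hE g⁻¹ hx))
    rwa [show g * (g⁻¹ * x * g⁻¹⁻¹) * g⁻¹ = x by group,
      show g * (k * (g⁻¹ * x * g⁻¹⁻¹) * k⁻¹) * g⁻¹ = g * k * g⁻¹ * x * (g * k * g⁻¹)⁻¹ by group] at h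
  have hinv : ∀ a ∈ E, a⁻¹ = a := fun a ha => inv_eq_of_mul_eq_one_left (tt_mul_self hE.1 ha)
  have hpair : ∀ a ∈ E, ∀ b ∈ E, Rl a b → a * b ∈ K := by
    intro a ha b hb hab x hx
    rw [mul_inv_rev, hinv a ha, hinv b hb, show a * b * x * (b * a) = a * (b * x * b) * a by group]
    by_cases hax : Rl a x
    · have h1 : Rl b (b * x * b) := by
        have h := hconj b ((rs hab).trans hax)
        rwa [hinv b hb, tt_mul_self hE.1 hb, one_mul] at h
      have h2 : Rl a (a * (b * x * b) * a) := by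
        have h := hconj a (hab.trans h1)
        rwa [hinv a ha, tt_mul_self hE.1 ha, one_mul] at h
      exact (rs hax).trans h2
    · have hna : ¬ Commute a x := fun h => hax (Relation.ReflTransGen.single ⟨ha, hx, h⟩)
      have hnb : ¬ Commute b x := fun h => hax (hab.trans (Relation.ReflTransGen.single ⟨hb, hx, h⟩))
      have h1 := hconj x hab
      rw [hinv x hx, tt_braid hE.1 hx ha fun h => hna h.symm,
        tt_braid hE.1 hx hb fun h => hnb h.symm] at h1
      have h2 := hconj a h1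
      rw [hinv a ha, show a * (a * x * a) * a = a * a * x * (a * a) by group, tt_mul_self hE.1 ha,
        one_mul, mul_one] at h2
      exact h2
  let π := QuotientGroup.mk' K
  have hπeq : ∀ a ∈ E, ∀ b ∈ E, a * b ∈ K → π a = π b := by
    intro a ha b hb h
    refine QuotientGroup.eq.2 ?_
    rwa [hinv a ha]
  have hcomm : ∀ a ∈ E, ∀ b ∈ E, Commute a b → π a = π b := fun a ha b hb h =>
    hπeq a ha b hb (hpair a ha b hb (Relation.ReflTransGen.single ⟨ha, hb, h⟩))
  obtain ⟨d, hd, hdE⟩ := hE.2.1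
  have hG₀K : ∀ g ∈ G₀, g ∈ K := by
    by_cases hd1 : π d = 1
    · intro g _
      have hall : ∀ a ∈ E, a ∈ K := by
        intro a ha
        obtain ⟨g, rfl⟩ := tt_class_conj hE hd ha
        exact hKn.conj_mem d ((QuotientGroup.eq_one_iff d).1 hd1) g
      have : (⊤ : Subgroup X) ≤ K := hE.2.2 ▸ (Subgroup.closure_le K).2 hall
      exact this (Subgroup.mem_top g)
    have hu2 : orderOf (π d) = 2 :=
      orderOf_eq_prime (by rw [← map_pow, pow_two, tt_mul_self hE.1 hd, map_one]) hd1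
    obtain ⟨P, hP⟩ := (IsPGroup.of_card (n := 1) (G := Subgroup.zpowers (π d))
      (by rw [Nat.card_zpowers, hu2, pow_one])).exists_le_sylow
    have hiso : ∀ g : X ⧸ K, g * π d * g⁻¹ ∈ (P : Subgroup (X ⧸ K)) → g * π d * g⁻¹ = π d := by
      intro g hg
      obtain ⟨g, rfl⟩ := QuotientGroup.mk'_surjective K g
      rw [← map_inv, ← map_mul, ← map_mul] at hg ⊢
      set e := g * d * g⁻¹
      have heE : e ∈ E := tt_invariant hE g hd
      by_cases hc : Commute e d
      · exact hcomm e heE d hd hc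
      have h3 := congrArg π (tt_cube hE.1 heE hd hc)
      rw [map_pow, map_one] at h3
      obtain ⟨k, hk⟩ := P.isPGroup' ⟨π (e * d), by
        rw [map_mul]
        exact mul_mem hg (hP (Subgroup.mem_zpowers _))⟩
      have h1 : π (e * d) = 1 := orderOf_eq_one_iff.1 (Nat.eq_one_of_dvd_coprimes
        ((by norm_num : Nat.Coprime 2 3).pow_left k)
        (orderOf_dvd_of_pow_eq_one (congrArg Subtype.val hk)) (orderOf_dvd_of_pow_eq_one h3))
      exact hπeq e heE d hd ((QuotientGroup.eq_one_iff _).1 h1)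
    obtain ⟨N, hNn, hNodd, hNc⟩ := zStarTheorem P (π d) hu2 (hP (Subgroup.mem_zpowers _)) hiso
    have huinv : (π d)⁻¹ = π d := by rw [← map_inv, hinv d hd]
    have hdG : ∀ a ∈ E, a ∉ G₀ := by
      intro a ha haG
      have hall : ∀ c ∈ E, c ∈ G₀ := by
        intro c hc
        obtain ⟨g, rfl⟩ := tt_class_conj hE ha hc
        exact hG₀n.conj_mem a haG g
      have h : (⊤ : Subgroup X) ≤ G₀ := hE.2.2 ▸ (Subgroup.closure_le G₀).2 hall
      rw [top_le_iff.1 h, Subgroup.index_top] at hidx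
      norm_num at hidx
    have hpar : ∀ x : X, (π x ∈ N ∧ x ∈ G₀) ∨ (π x * π d ∈ N ∧ x ∉ G₀) := by
      intro x
      have hx : x ∈ Subgroup.closure E := hE.2.2 ▸ Subgroup.mem_top x
      induction hx using Subgroup.closure_induction with
      | mem a ha =>
        refine Or.inr ⟨?_, hdG a ha⟩
        obtain ⟨g, rfl⟩ := tt_class_conj hE hd ha
        have h := inv_mem (hNc (π g))
        rw [show (π d * π g * (π d)⁻¹ * (π g)⁻¹)⁻¹ = π g * π d * (π g)⁻¹ * (π d)⁻¹ by group,
          huinv] at h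
        rwa [map_mul, map_mul, map_inv]
      | one => exact Or.inl ⟨by rw [map_one]; exact N.one_mem, G₀.one_mem⟩
      | mul a c _ _ iha ihc =>
        rw [map_mul]
        rcases iha with ⟨h1, h2⟩ | ⟨h1, h2⟩ <;> rcases ihc with ⟨h3, h4⟩ | ⟨h3, h4⟩
        · exact Or.inl ⟨mul_mem h1 h3, mul_mem h2 h4⟩
        · exact Or.inr ⟨by rw [mul_assoc]; exact mul_mem h1 h3,
            fun h => h4 ((Subgroup.mul_mem_cancel_left G₀ h2).1 h)⟩
        · refine Or.inr ⟨?_, fun h => h2 ((Subgroup.mul_mem_cancel_right G₀ h4).1 h)⟩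
          rw [show π a * π c * π d = π a * π d * ((π d)⁻¹ * π c * (π d)⁻¹⁻¹) by group]
          exact mul_mem h1 (hNn.conj_mem _ h3 _)
        · refine Or.inl ⟨?_, (Subgroup.mul_mem_iff_of_index_two hidx).2 ⟨fun h => absurd h h2,
            fun h => absurd h h4⟩⟩
          rw [show π a * π c = π a * π d * ((π d)⁻¹ * (π c * π d) * (π d)⁻¹⁻¹) * ((π d)⁻¹ * (π d)⁻¹) by
            group]
          refine mul_mem (mul_mem h1 (hNn.conj_mem _ h3 _)) ?_
          rw [← map_inv, hinv d hd, ← map_mul, tt_mul_self hE.1 hd, map_one]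
          exact N.one_mem
      | inv a _ iha =>
        rcases iha with ⟨h1, h2⟩ | ⟨h1, h2⟩
        · exact Or.inl ⟨by rw [map_inv]; exact inv_mem h1, inv_mem h2⟩
        · refine Or.inr ⟨?_, fun h => h2 (inv_mem_iff.1 h)⟩
          have h := hNn.conj_mem _ (inv_mem h1) (π d)
          rw [map_inv]
          rwa [show π d * (π a * π d)⁻¹ * (π d)⁻¹ = π d * (π d)⁻¹ * (π a)⁻¹ * (π d)⁻¹ by group,
            mul_inv_cancel, one_mul, huinv] at h
    have hGN : ∀ g ∈ G₀, π g ∈ N := fun g hg => ((hpar g).resolve_right fun h => h.2 hg).1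
    let σ : (Subgroup.centralizer ({z} : Set G₀)) →* ↥N := MonoidHom.mk' (fun c => ⟨π ((c : G₀) : X), hGN _ (c : G₀).2⟩)
      fun a c => Subtype.ext (map_mul π _ _)
    have hσ := hodd ↥N hNodd σ
    have hCK : ∀ c : (Subgroup.centralizer ({z} : Set G₀)), ((c : G₀) : X) ∈ K := fun c =>
      (QuotientGroup.eq_one_iff _).1 (congrArg Subtype.val (DFunLike.congr_fun hσ c))
    -- Frattini
    obtain ⟨S, hS⟩ := (hR.1.1.map (Subgroup.centralizer ({z} : Set G₀)).subtype).exists_le_sylow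
    set K0 := K.comap G₀.subtype
    haveI : K0.Normal := hKn.comap G₀.subtype
    have hSK : (S : Subgroup G₀) ≤ K0 := by
      intro p hp
      obtain ⟨k, hk⟩ := S.isPGroup' ⟨p, hp⟩
      have h2 : orderOf (π (p : X)) ∣ 2 ^ k := orderOf_dvd_of_pow_eq_one (by
        rw [← map_pow, ← SubgroupClass.coe_pow,
          show p ^ 2 ^ k = 1 from congrArg Subtype.val hk, OneMemClass.coe_one, map_one])
      have h1 : orderOf (π (p : X)) ∣ Nat.card N := Subgroup.orderOf_dvd_natCard _ (hGN _ p.2)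
      exact (QuotientGroup.eq_one_iff (p : X)).1 ((orderOf_eq_one_iff (x := π (p : X))).1 (Nat.eq_one_of_dvd_coprimes
        ((Nat.coprime_two_left.2 hNodd).pow_left k) h2 h1))
    have hzc : z ∈ (Subgroup.centralizer ({z} : Set G₀)) := Subgroup.mem_centralizer_singleton_iff.2 rfl
    have hzS : z ∈ (S : Subgroup G₀) := by
      refine hS ⟨⟨z, hzc⟩, ?_, rfl⟩
      rw [← hF]
      exact centralizer_genFitting_le fun r _ => Subtype.ext (Subgroup.mem_centralizer_singleton_iff.1 r.2)
    have hzZ : ∀ p ∈ (S : Subgroup G₀), Commute p z := by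
      haveI : Nontrivial (S : Subgroup G₀) := ⟨⟨⟨z, hzS⟩, 1, fun e => by
        rw [show z = 1 from congrArg Subtype.val e, orderOf_one] at hz
        norm_num at hz⟩⟩
      haveI := S.isPGroup'.center_nontrivial
      obtain ⟨⟨y, hy⟩, hy1⟩ := exists_ne (1 : Subgroup.center (S : Subgroup G₀))
      have hyc : ∀ p ∈ (S : Subgroup G₀), Commute p (y : G₀) := fun p hp =>
        congrArg Subtype.val (Subgroup.mem_center_iff.1 hy ⟨p, hp⟩)
      have e := eq_of_cent hz hF hR (hyc z hzS).symm (fun r hr => hyc _ (hS ⟨r, hr, rfl⟩))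
        fun e => hy1 (Subtype.ext (Subtype.ext e))
      intro p hp
      rw [← e]
      exact hyc p hp
    intro g hg
    have htop := Sylow.normalizer_sup_eq_top' (N := K0) S hSK
    obtain ⟨n, hn, k, hk, hnk⟩ := Subgroup.mem_sup_of_normal_right.1
      (show (⟨g, hg⟩ : G₀) ∈ Subgroup.normalizer ((S : Subgroup G₀) : Set G₀) ⊔ K0 from
        htop ▸ Subgroup.mem_top _)
    have hnz : n * z * n⁻¹ = z := by
      have hmem : n * z * n⁻¹ ∈ (S : Subgroup G₀) := (Subgroup.mem_normalizer_iff.1 hn z).1 hzS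
      refine eq_of_cent hz hF hR (hzZ _ hmem) (fun r hr => ?_) fun e => ?_
      · have hrS : (r : G₀) ∈ (S : Subgroup G₀) := hS ⟨r, hr, rfl⟩
        have hr' : n⁻¹ * (r : G₀) * n ∈ (S : Subgroup G₀) :=
          (Subgroup.mem_normalizer_iff.1 hn _).2 (by
            rw [show n * (n⁻¹ * (r : G₀) * n) * n⁻¹ = (r : G₀) by group]; exact hrS)
        have h := (commute_conj_iff n _ _).2 (hzZ _ hr')
        rwa [show n * (n⁻¹ * (r : G₀) * n) * n⁻¹ = (r : G₀) by group] at h
      · rw [conj_eq_one_iff] at e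
        rw [e, orderOf_one] at hz
        norm_num at hz
    have hnC : n ∈ (Subgroup.centralizer ({z} : Set G₀)) := Subgroup.mem_centralizer_singleton_iff.2 (mul_inv_eq_iff_eq_mul.1 hnz)
    have h := mul_mem (hCK ⟨n, hnC⟩) (show ((k : G₀) : X) ∈ K from hk)
    rwa [← Subgroup.coe_mul, hnk] at h
  have : Nonempty E := ⟨⟨d, by rw [hdE]; exact mem_conjugatesOf_self⟩⟩
  have hdmem : d ∈ E := hd
  have hreach : ∀ e ∈ E, Rl d e := by
    intro e he
    obtain ⟨g, rfl⟩ := tt_class_conj hE hdmem he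
    by_cases hg : g ∈ G₀
    · exact hG₀K g hg d hdmem
    · by_cases hdG : d ∈ G₀
      · have hall : ∀ c ∈ E, c ∈ G₀ := by
          intro c hc
          obtain ⟨h, rfl⟩ := tt_class_conj hE hdmem hc
          exact hG₀n.conj_mem d hdG h
        have h : (⊤ : Subgroup X) ≤ G₀ := hE.2.2 ▸ (Subgroup.closure_le G₀).2 hall
        exact absurd (h (Subgroup.mem_top g)) hg
      · have hgd : g * d ∈ G₀ :=
          (Subgroup.mul_mem_iff_of_index_two hidx).2 ⟨fun h => absurd h hg, fun h => absurd h hdG⟩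
        have h := hG₀K _ hgd d hdmem
        rwa [show g * d * d * (g * d)⁻¹ = g * (d * d * d⁻¹) * g⁻¹ by group, mul_inv_cancel_right] at h
  have key : ∀ e, Rl d e → ∀ he : e ∈ E,
      (Cfsg.commutingGraph E).Reachable ⟨d, hdmem⟩ ⟨e, he⟩ := by
    intro e h
    induction h with
    | refl => exact fun _ => SimpleGraph.Reachable.refl _
    | @tail p q _ hpq ih =>
      intro hq
      by_cases hne : p = q
      · subst hne; exact ih hq
      refine (ih hpq.1).trans (SimpleGraph.Adj.reachable ?_)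
      simp only [Cfsg.commutingGraph, SimpleGraph.fromRel_adj]
      exact ⟨fun e => hne (congrArg Subtype.val e), Or.inl hpq.2.2⟩
  exact ⟨fun x y => (key _ (hreach _ x.2) x.2).symm.trans (key _ (hreach _ y.2) y.2)⟩

/-- Primitivity. -/
theorem primitive_of_setting {G₀ : Subgroup X} (hidx : G₀.index = 2) {z : G₀} (hz : orderOf z = 2)
    {R : Subgroup (Subgroup.centralizer ({z} : Set G₀))}
    (hF : generalizedFittingSubgroup (Subgroup.centralizer ({z} : Set G₀)) = R) (hR : IsExtraspecial 2 R)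
    {s : Subgroup.centralizer ({z} : Set G₀)} (hs : s ∈ R) (hsc : IsConj z s.1) (hsz : s.1 ≠ z)
    (hirr : ∀ W : Subgroup (Subgroup.centralizer ({z} : Set G₀)), W.Normal → W ≤ R →
      (∀ h : z ∈ Subgroup.centralizer ({z} : Set G₀), ⟨z, h⟩ ∈ W) →
      (∃ w ∈ W, (w : G₀) ≠ 1 ∧ (w : G₀) ≠ z) → R ≤ W)
    (hodd : ∀ (A : Type u) [Group A] [Finite A], Odd (Nat.card A) →
      ∀ π : Subgroup.centralizer ({z} : Set G₀) →* A, π = 1)
    {E : Set X} (hE : IsThreeTranspositionClass E) (h24 : IsOfTypeM24 X E) :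
    IsPrimitiveUnderConj E := by
  have hw : ∃ a ∈ E, ∃ b ∈ E, a ≠ b ∧ Commute a b := by
    obtain ⟨-, d, hd, c, -, -, h23, -⟩ := h24
    obtain ⟨-, d', hd', -⟩ := h23
    obtain ⟨x, ⟨hxE, hxd, hxc⟩, -⟩ := hd'
    exact ⟨d, hd, _, hxE, hxd.symm, hxc⟩
  exact ((S5361.result hE h24.1 hw).2).2 ⟨two_core_eq_bot h24.1 hidx hz hF hR hs hsc hsz hirr,
    three_core_eq_bot hidx hz hF hR hs hsc hsz, connected_of_setting hidx hz hF hR hodd hE⟩

end Cfsg.Agent.H89.MonsterFi24
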