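import Cfsg.Agent.H89.MonsterFi24.Group
import Cfsg.Agent.H89.MonsterFi24.Index
import Cfsg.Agent.H89.MonsterFi24.Local
import Cfsg.Agent.H89.MonsterFi24.Primitive
import Cfsg.Prelude.Def_FischerSpaces

/-!
The normaliser of the three-central element modulo it has a subgroup of index two of large Fischer type
with the data needed for recognising type M(24); here that recognition is a hypothesis.
-/

set_option autoImplicit false
set_option linter.style.haveILetI false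
set_option maxHeartbeats 1000000
set_option maxRecDepth 100000

namespace Cfsg.Agent.H89.MonsterFi24

open Cfsg Cfsg.Agent.H92.LeechTwo Cfsg.Agent.H92.MonsterQ
open Cfsg.Agent.H65.MonsterFive (phi qm_facts mem_centralizer_zpowers)
open Cfsg.Agent.H65.MonsterThree (Noncentral)
open Cfsg.Agent.H89.MonsterThree (three threeData)

universe u

/-- The recognition of type M(24) from a large Fischer type subgroup of index two. -/
def RecognisesM24 (X : Type u) [Group X] : Prop :=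
  ∀ (G₀ : Subgroup X), G₀.index = 2 → ∀ (z : ↥G₀), orderOf z = 2 →
    ∀ (Q N M : Subgroup (Subgroup.centralizer ({z} : Set ↥G₀))) [Q.Normal] [N.Normal] [M.Normal],
    Cfsg.generalizedFittingSubgroup (Subgroup.centralizer ({z} : Set ↥G₀)) = Q →
    Cfsg.IsExtraspecial 2 Q → Nat.card Q = 2 ^ 13 → Q ≤ N → N ≤ M → Nat.card N = 3 * Nat.card Q →
    ∀ (K : Type) [Field K] [Fintype K], Fintype.card K = 9 → (M ⧸ N.subgroupOf M ≃* Cfsg.PSU 4 K 3) →
    M.index = 2 →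
    (∃ g : ↥G₀, (∃ hq : g * z * g⁻¹ ∈ Subgroup.centralizer ({z} : Set ↥G₀),
      (⟨g * z * g⁻¹, hq⟩ : Subgroup.centralizer ({z} : Set ↥G₀)) ∈ Q) ∧ g * z * g⁻¹ ≠ z) →
    (∃ P : Sylow 2 ↥G₀, z ∈ (P : Subgroup ↥G₀) ∧ ∀ x ∈ (P : Subgroup ↥G₀), Commute x z) →
    (Cfsg.generalizedFittingSubgroup ↥(Subgroup.centralizer ({(z : X)} : Set X))).map (Subgroup.subtype _) =
      ((Q.map (Subgroup.subtype _)).map G₀.subtype) →
    ∃ E : Set X, Cfsg.IsThreeTranspositionClass E ∧ Cfsg.IsOfTypeM24 X E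

variable {G : Type u} [Group G] [Finite G] {z : G}
  {Q : Subgroup (Subgroup.centralizer ({z} : Set G))} [Q.Normal]
  {e : (Subgroup.centralizer ({z} : Set G)) ⧸ Q ≃* Spor.Co1}
  {ψ : Cfsg.leechLattice → Q ⧸ Subgroup.center Q}

omit [Finite G] in
/-- An element centralising the involution modulo the three-group centralises it. -/
theorem mem_centralizer_of_mod {b n : G} (hb3 : orderOf b = 3) (hbz : b ∈ Subgroup.centralizer ({z} : Set G))
    (hz2 : orderOf z = 2) (h1 : (n * z)⁻¹ * (z * n) ∈ Subgroup.zpowers b) :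
    n ∈ Subgroup.centralizer ({z} : Set G) := by
  set u := (n * z)⁻¹ * (z * n) with hu
  have hbz' : b * z = z * b := Subgroup.mem_centralizer_singleton_iff.1 hbz
  have hzz : z * z = 1 := by
    have h := pow_orderOf_eq_one z
    rwa [hz2, pow_two] at h
  obtain ⟨i, hi⟩ := Subgroup.mem_zpowers_iff.1 h1
  have hzu : z * u = u * z := by
    rw [← hi]
    exact ((show Commute z b from hbz'.symm).zpow_right i).eq
  have hw : n⁻¹ * z * n = z * u := by
    rw [hu]; group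
  have hwu : u * u = 1 := by
    have e2 : n⁻¹ * z * n * (n⁻¹ * z * n) = 1 := by
      calc n⁻¹ * z * n * (n⁻¹ * z * n) = n⁻¹ * (z * z) * n := by group
        _ = 1 := by rw [hzz]; group
    rw [hw, mul_assoc, ← mul_assoc u z u, ← hzu, mul_assoc z u u, ← mul_assoc, hzz, one_mul] at e2
    exact e2
  have hu1 : u = 1 := by
    have h3 : orderOf u ∣ 3 := by
      have := Subgroup.orderOf_dvd_natCard (Subgroup.zpowers b) h1
      rwa [Nat.card_zpowers, hb3] at this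
    have h2 : orderOf u ∣ 2 := orderOf_dvd_of_pow_eq_one (by rw [pow_two, hwu])
    exact orderOf_eq_one_iff.1 (Nat.eq_one_of_dvd_coprimes (by norm_num : Nat.Coprime 3 2) h3 h2)
  rw [hu, inv_mul_eq_one] at hu1
  exact Subgroup.mem_centralizer_singleton_iff.2 hu1

/-- The normaliser modulo the three-group contains the centraliser with index two, and is recognised. -/
theorem normalizer_setting (S : Setting z Q e ψ) {x : Q}
    (hx : ψ (Cfsg.Agent.Golay.axisVec none) = QuotientGroup.mk x)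
    {b : G} (hb3 : orderOf b = 3) (hbz : b ∈ Subgroup.centralizer ({z} : Set G))
    (hbs : b * vG x = vG x * b) (hbe : phi e ⟨b, hbz⟩ = QuotientGroup.mk three)
    (hnc : ¬ Noncentral (Subgroup.centralizer ({z, vG x} : Set G)) b)
    [((Subgroup.zpowers b).subgroupOf (Subgroup.centralizer (Subgroup.zpowers b : Set G))).Normal]
    [((Subgroup.zpowers b).subgroupOf (Subgroup.normalizer (Subgroup.zpowers b : Set G))).Normal]
    (hrec : RecognisesM24 (↥(Subgroup.normalizer (Subgroup.zpowers b : Set G)) ⧸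
      (Subgroup.zpowers b).subgroupOf (Subgroup.normalizer (Subgroup.zpowers b : Set G)))) :
    ∃ (G₀ : Subgroup (↥(Subgroup.normalizer (Subgroup.zpowers b : Set G)) ⧸
        (Subgroup.zpowers b).subgroupOf (Subgroup.normalizer (Subgroup.zpowers b : Set G)))),
      G₀.index = 2 ∧
      Nonempty (↥(Subgroup.centralizer (Subgroup.zpowers b : Set G)) ⧸
        (Subgroup.zpowers b).subgroupOf (Subgroup.centralizer (Subgroup.zpowers b : Set G)) ≃* ↥G₀) ∧
      ∃ E : Set (↥(Subgroup.normalizer (Subgroup.zpowers b : Set G)) ⧸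
        (Subgroup.zpowers b).subgroupOf (Subgroup.normalizer (Subgroup.zpowers b : Set G))),
        Cfsg.IsThreeTranspositionClass E ∧ Cfsg.IsOfTypeM24 _ E ∧ Cfsg.IsPrimitiveUnderConj E := by
  classical
  haveI : Fact (Nat.Prime 2) := ⟨Nat.prime_two⟩
  obtain ⟨hzQm, hconj⟩ := map_setting S
  obtain ⟨-, hQcard, -, -, -⟩ := qm_facts S
  obtain ⟨k, hkz, hkb⟩ := exists_inverting S hb3 hbz hbe
  set B := Subgroup.zpowers b with hB
  set Cb := Subgroup.centralizer (B : Set G) with hCb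
  set Nb := Subgroup.normalizer (B : Set G) with hNb
  set T := B.subgroupOf Cb
  set U := B.subgroupOf Nb
  obtain ⟨hzC, R, hRn, hLF, hRmem⟩ := threeData S hx hb3 hbz hbs hbe hnc
  have hb3' : b ^ 3 = 1 := hb3 ▸ pow_orderOf_eq_one b
  have hbb : b * b ≠ b := fun h => by
    have h1 : b = 1 := mul_eq_left.1 h
    rw [h1, orderOf_one] at hb3
    norm_num at hb3
  have hQB : ∀ u : G, u ∈ Q.map (Subgroup.centralizer ({z} : Set G)).subtype → u ∈ B → u = 1 := by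
    intro u hu hu'
    have h1 : orderOf u ∣ 3 := by
      have := Subgroup.orderOf_dvd_natCard B hu'
      rwa [hB, Nat.card_zpowers, hb3] at this
    have h2 := Subgroup.orderOf_dvd_natCard _ hu
    rw [hQcard] at h2
    exact orderOf_eq_one_iff.1
      (Nat.eq_one_of_dvd_coprimes ((by norm_num : Nat.Coprime 3 2).pow_right 25) h1 h2)
  have hle : Cb ≤ Nb := Subgroup.centralizer_le_normalizer _
  have hkN : k ∈ Nb := by
    refine Subgroup.mem_normalizer_iff.2 fun t => ⟨?_, ?_⟩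
    · rintro ⟨i, rfl⟩
      refine ⟨-i, ?_⟩
      show b ^ (-i) = k * b ^ i * k⁻¹
      rw [← conj_zpow, hkb, inv_zpow, zpow_neg]
    · rintro ⟨i, hi⟩
      refine ⟨-i, ?_⟩
      have hi' : b ^ i = k * t * k⁻¹ := hi
      show b ^ (-i) = t
      have e : k * b ^ (-i) * k⁻¹ = k * t * k⁻¹ := by
        rw [← hi', ← conj_zpow, hkb, inv_zpow, zpow_neg, inv_inv]
      exact mul_left_cancel (mul_right_cancel e)
  have hout : ∀ n ∈ Nb, n ∉ Cb → n * b * n⁻¹ = b⁻¹ := by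
    intro n hn hnC
    have hm : n * b * n⁻¹ ∈ B := (Subgroup.mem_normalizer_iff.1 hn b).1 (Subgroup.mem_zpowers b)
    obtain ⟨i, hi⟩ := (mem_powers_iff_mem_zpowers.2 hm : n * b * n⁻¹ ∈ Submonoid.powers b)
    have hi' : b ^ (i % 3) = n * b * n⁻¹ := by rw [← hb3, pow_mod_orderOf]; exact hi
    rcases (show i % 3 = 0 ∨ i % 3 = 1 ∨ i % 3 = 2 by omega) with h | h | h <;> rw [h] at hi'
    · exfalso
      rw [pow_zero, eq_comm, conj_eq_one_iff] at hi'
      exact hnC (mem_centralizer_zpowers.2 (by rw [hi', mul_one, one_mul]))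
    · exfalso
      rw [pow_one] at hi'
      exact hnC (mem_centralizer_zpowers.2 (mul_inv_eq_iff_eq_mul.1 hi'.symm))
    · rw [← hi', pow_two]
      refine eq_inv_of_mul_eq_one_left ?_
      rw [← pow_two, ← pow_succ, hb3']
  have hkC : k ∉ Cb := fun h => by
    have h1 := mem_centralizer_zpowers.1 h
    rw [h1, mul_inv_cancel_right] at hkb
    refine hbb ?_
    have h2 : b * b = 1 := eq_inv_iff_mul_eq_one.1 hkb
    rw [h2, ← hb3', pow_succ, pow_two, h2, one_mul]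
  -- the embedding
  let f : Cb ⧸ T →* Nb ⧸ U := QuotientGroup.map T U (Subgroup.inclusion hle) fun a ha => ha
  have hf : ∀ a : Cb, f (QuotientGroup.mk a) = QuotientGroup.mk ⟨a, hle a.2⟩ := fun a => rfl
  have hfi : Function.Injective f := (injective_iff_map_eq_one f).2 fun d hd => by
    obtain ⟨a, rfl⟩ := QuotientGroup.mk_surjective d
    rw [hf, QuotientGroup.eq_one_iff] at hd
    exact (QuotientGroup.eq_one_iff a).2 hd
  set G₀ := f.range with hG₀
  have hmemG₀ : ∀ n : Nb, (QuotientGroup.mk n : Nb ⧸ U) ∈ G₀ ↔ (n : G) ∈ Cb := by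
    intro n
    constructor
    · rintro ⟨d, hd⟩
      obtain ⟨a, rfl⟩ := QuotientGroup.mk_surjective d
      rw [hf, QuotientGroup.eq] at hd
      have hd' : (a : G)⁻¹ * n ∈ B := hd
      have hBC : B ≤ Cb := Subgroup.zpowers_le.2 (mem_centralizer_zpowers.2 rfl)
      have h2 := mul_mem a.2 (hBC hd')
      rwa [mul_inv_cancel_left] at h2
    · intro hn
      exact ⟨QuotientGroup.mk ⟨n, hn⟩, rfl⟩
  have hidx : G₀.index = 2 := by
    refine Subgroup.index_eq_two_iff.2 ⟨QuotientGroup.mk ⟨k, hkN⟩, fun d => ?_⟩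
    obtain ⟨n, rfl⟩ := QuotientGroup.mk_surjective d
    rw [← QuotientGroup.mk_mul, hmemG₀, hmemG₀, Subgroup.coe_mul]
    by_cases hn : (n : G) ∈ Cb
    · exact Or.inr ⟨hn, fun h => hkC (by simpa using mul_mem (inv_mem hn) h)⟩
    · refine Or.inl ⟨mem_centralizer_zpowers.2 (mul_inv_eq_iff_eq_mul.1 ?_), hn⟩
      calc (n : G) * k * b * ((n : G) * k)⁻¹ = n * (k * b * k⁻¹) * (n : G)⁻¹ := by group
        _ = (n * b * (n : G)⁻¹)⁻¹ := by rw [hkb]; group
        _ = b := by rw [hout _ n.2 hn, inv_inv]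
  haveI hG₀n : G₀.Normal := Subgroup.normal_of_index_eq_two hidx
  let ι : Cb ⧸ T ≃* G₀ := MonoidHom.ofInjective hfi
  have hι : ∀ d, ((ι d : G₀) : Nb ⧸ U) = f d := fun d => rfl
  haveI := hRn
  obtain ⟨hR'n, hLF'⟩ := largeFischer_transport ι hLF
  haveI := hR'n
  set R' := R.map (centEquiv ι (QuotientGroup.mk ⟨z, hzC⟩ : Cb ⧸ T)).toMonoidHom
  obtain ⟨⟨hz2, hF, hex, hcard, hg⟩, N, M, hN, hM, hRN, hNM, hNc, ⟨K, iK, iF, hK, ⟨φ⟩⟩, hMi⟩ := hLF'
  haveI := hN
  haveI := hM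
  have hR2 : IsPGroup 2 R' := IsPGroup.of_card hcard
  have hzn : (ι (QuotientGroup.mk ⟨z, hzC⟩ : Cb ⧸ T) : Nb ⧸ U) = QuotientGroup.mk ⟨z, hle hzC⟩ := rfl
  -- an outer element commuting with the involution
  have hlift : ∀ p : Nb ⧸ U, p ∉ G₀ → p * (ι (QuotientGroup.mk ⟨z, hzC⟩ : Cb ⧸ T) : Nb ⧸ U) = (ι (QuotientGroup.mk ⟨z, hzC⟩ : Cb ⧸ T) : Nb ⧸ U) * p →
      ∃ n : Nb, p = QuotientGroup.mk n ∧ (n : G) ∈ Subgroup.centralizer ({z} : Set G) ∧
        (n : G) * b * (n : G)⁻¹ = b⁻¹ := by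
    intro p hp hpz
    obtain ⟨n, rfl⟩ := QuotientGroup.mk_surjective p
    refine ⟨n, rfl, ?_, hout _ n.2 fun h => hp ((hmemG₀ n).2 h)⟩
    rw [hzn, ← QuotientGroup.mk_mul, ← QuotientGroup.mk_mul, QuotientGroup.eq] at hpz
    exact mem_centralizer_of_mod hb3 hbz S.setting.1 hpz
  -- the joint centraliser onto the centraliser in the quotient
  set J := Subgroup.centralizer ({z} : Set G) ⊓ Cb with hJdef
  let Φ : J →* Subgroup.centralizer ({ι (QuotientGroup.mk ⟨z, hzC⟩ : Cb ⧸ T)} : Set G₀) := MonoidHom.mk'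
    (fun j => centEquiv ι (QuotientGroup.mk ⟨z, hzC⟩ : Cb ⧸ T) ⟨QuotientGroup.mk ⟨(j : G), j.2.2⟩, Subgroup.mem_centralizer_singleton_iff.2 (by
      rw [← QuotientGroup.mk_mul, ← QuotientGroup.mk_mul]
      exact congrArg _ (Subtype.ext (Subgroup.mem_centralizer_singleton_iff.1 j.2.1)))⟩)
    fun i j => by
      rw [← map_mul]
      rfl
  have hΦs : Function.Surjective Φ := by
    intro d
    obtain ⟨⟨d, hd⟩, rfl⟩ := (centEquiv ι (QuotientGroup.mk ⟨z, hzC⟩ : Cb ⧸ T)).surjective d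
    obtain ⟨a, rfl⟩ := QuotientGroup.mk_surjective d
    have hd' := Subgroup.mem_centralizer_singleton_iff.1 hd
    rw [← QuotientGroup.mk_mul, ← QuotientGroup.mk_mul, QuotientGroup.eq] at hd'
    exact ⟨⟨a, mem_centralizer_of_mod hb3 hbz S.setting.1 hd', a.2⟩, rfl⟩
  have hRΦ : ∀ j : J, (j : G) ∈ Q.map (Subgroup.centralizer ({z} : Set G)).subtype → Φ j ∈ R' :=
    fun j hj => ⟨_, (hRmem _).2 ⟨⟨(j : G), j.2.2⟩, hj, rfl⟩, rfl⟩
  have hRΦ' : ∀ r ∈ R', ∃ j : J, (j : G) ∈ Q.map (Subgroup.centralizer ({z} : Set G)).subtype ∧ Φ j = r := by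
    rintro _ ⟨r, hr, rfl⟩
    obtain ⟨q, hq, hqr⟩ := (hRmem r).1 hr
    exact ⟨⟨q, Subgroup.map_subtype_le _ hq, q.2⟩, hq, congrArg (centEquiv ι (QuotientGroup.mk ⟨z, hzC⟩ : Cb ⧸ T)) (Subtype.ext hqr.symm)⟩
  have hodd : ∀ (A : Type u) [Group A] [Finite A], Odd (Nat.card A) →
      ∀ π : Subgroup.centralizer ({ι (QuotientGroup.mk ⟨z, hzC⟩ : Cb ⧸ T)} : Set G₀) →* A, π = 1 := by
    intro A _ _ hA π
    refine MonoidHom.ext fun d => ?_
    obtain ⟨j, rfl⟩ := hΦs d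
    exact DFunLike.congr_fun (centraliser_hom_odd S hb3 hbz hbe hA (π.comp Φ)) j
  have hirr : ∀ W : Subgroup (Subgroup.centralizer ({ι (QuotientGroup.mk ⟨z, hzC⟩ : Cb ⧸ T)} : Set G₀)), W.Normal → W ≤ R' →
      (∀ h : ι (QuotientGroup.mk ⟨z, hzC⟩ : Cb ⧸ T) ∈ Subgroup.centralizer ({ι (QuotientGroup.mk ⟨z, hzC⟩ : Cb ⧸ T)} : Set G₀), ⟨ι (QuotientGroup.mk ⟨z, hzC⟩ : Cb ⧸ T), h⟩ ∈ W) →
      (∃ w ∈ W, (w : G₀) ≠ 1 ∧ (w : G₀) ≠ ι (QuotientGroup.mk ⟨z, hzC⟩ : Cb ⧸ T)) → R' ≤ W := by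
    intro W hWn hWR hzW hne r hr
    set WJ : Subgroup J :=
      W.comap Φ ⊓ (Q.map (Subgroup.centralizer ({z} : Set G)).subtype).comap J.subtype with hWJ
    have hzJ : z ∈ J := ⟨Subgroup.mem_centralizer_singleton_iff.2 rfl, hzC⟩
    have key := fixed_normal S hb3 hbz hbe (W := WJ.map J.subtype)
      (by rintro _ ⟨j, hj, rfl⟩; exact hj.2)
      (by
        rintro _ ⟨j, -, rfl⟩
        exact mem_centralizer_zpowers.1 j.2.2)
      ⟨⟨z, hzJ⟩, ⟨hzW (Φ ⟨z, hzJ⟩).2, hzQm⟩, rfl⟩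
      (by
        rintro c hc hcb _ ⟨j, hj, rfl⟩
        refine ⟨⟨c, hc, mem_centralizer_zpowers.2 hcb⟩ * j * ⟨c, hc, mem_centralizer_zpowers.2 hcb⟩⁻¹,
          ⟨?_, hconj _ hj.2 c hc⟩, rfl⟩
        show Φ _ ∈ W
        rw [map_mul, map_mul, map_inv]
        exact hWn.conj_mem _ hj.1 _)
      (by
        obtain ⟨w, hw, hw1, hwz⟩ := hne
        obtain ⟨j, hj, rfl⟩ := hRΦ' w (hWR hw)
        refine ⟨j, ⟨j, ⟨hw, hj⟩, rfl⟩, fun e => hw1 ?_, fun e => hwz ?_⟩
        · rw [show j = 1 from Subtype.ext e, map_one]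
          rfl
        · rw [show j = ⟨z, hzJ⟩ from Subtype.ext e]
          rfl)
    obtain ⟨j, hj, rfl⟩ := hRΦ' r hr
    obtain ⟨j', hj', e⟩ := key _ hj (mem_centralizer_zpowers.1 j.2.2)
    rw [← show j' = j from Subtype.ext e]
    exact hj'.1
  have hFX := fit_centralizer G₀ (ι (QuotientGroup.mk ⟨z, hzC⟩ : Cb ⧸ T)) R' hF hR2
    (fun p hp hpz => by
      obtain ⟨n, rfl, hnz, hnb⟩ := hlift p hp hpz
      obtain ⟨⟨q, hq, hqb, hne⟩, -⟩ := inverting_acts S hb3 hbz hbe hnz hnb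
      have hqC : q ∈ Cb := mem_centralizer_zpowers.2 hqb
      set d : Subgroup.centralizer ({(QuotientGroup.mk ⟨z, hzC⟩ : Cb ⧸ T)} : Set (Cb ⧸ T)) :=
        ⟨QuotientGroup.mk ⟨q, hqC⟩, Subgroup.mem_centralizer_singleton_iff.2 (by
          rw [← QuotientGroup.mk_mul, ← QuotientGroup.mk_mul]
          exact congrArg _ (Subtype.ext
            (Subgroup.mem_centralizer_singleton_iff.1 (Subgroup.map_subtype_le _ hq))))⟩
      refine ⟨centEquiv ι (QuotientGroup.mk ⟨z, hzC⟩ : Cb ⧸ T) d, ⟨d, (hRmem d).2 ⟨⟨q, hqC⟩, hq, rfl⟩, rfl⟩, ?_⟩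
      show (QuotientGroup.mk n : Nb ⧸ U) * QuotientGroup.mk ⟨q, hle hqC⟩ ≠
        QuotientGroup.mk ⟨q, hle hqC⟩ * QuotientGroup.mk n
      rw [← QuotientGroup.mk_mul, ← QuotientGroup.mk_mul, Ne, QuotientGroup.eq]
      intro h
      have h' : ((n : G) * q)⁻¹ * (q * n) ∈ B := h
      have hm : ((n : G) * q)⁻¹ * (q * n) ∈ Q.map (Subgroup.centralizer ({z} : Set G)).subtype := by
        rw [show ((n : G) * q)⁻¹ * (q * n) = q⁻¹ * ((n : G)⁻¹ * q * ((n : G)⁻¹)⁻¹) by group]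
        exact mul_mem (inv_mem hq) (hconj _ hq _ (inv_mem hnz))
      exact hne (inv_mul_eq_one.1 (hQB _ hm h')))
    (fun p hp hpz => by
      obtain ⟨n, rfl, hnz, hnb⟩ := hlift p hp hpz
      obtain ⟨-, c, hcz, hcb, hne⟩ := inverting_acts S hb3 hbz hbe hnz hnb
      have hcC : c ∈ Cb := mem_centralizer_zpowers.2 hcb
      set d : Subgroup.centralizer ({(QuotientGroup.mk ⟨z, hzC⟩ : Cb ⧸ T)} : Set (Cb ⧸ T)) :=
        ⟨QuotientGroup.mk ⟨c, hcC⟩, Subgroup.mem_centralizer_singleton_iff.2 (by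
          rw [← QuotientGroup.mk_mul, ← QuotientGroup.mk_mul]
          exact congrArg _ (Subtype.ext (Subgroup.mem_centralizer_singleton_iff.1 hcz)))⟩
      refine ⟨centEquiv ι (QuotientGroup.mk ⟨z, hzC⟩ : Cb ⧸ T) d, ?_⟩
      rintro _ ⟨r, hr, rfl⟩ h
      obtain ⟨q, hq, hqr⟩ := (hRmem r).1 hr
      have h' : (QuotientGroup.mk (n * ⟨c, hle hcC⟩ * n⁻¹ * ⟨c, hle hcC⟩⁻¹) : Nb ⧸ U) =
          QuotientGroup.mk ⟨q, hle q.2⟩ := by
        rw [QuotientGroup.mk_mul, QuotientGroup.mk_mul, QuotientGroup.mk_mul, QuotientGroup.mk_inv,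
          QuotientGroup.mk_inv]
        exact h.trans (congrArg f hqr)
      rw [eq_comm, QuotientGroup.eq] at h'
      have h'' : (q : G)⁻¹ * ((n : G) * c * (n : G)⁻¹ * c⁻¹) ∈ B := h'
      exact hne _ hq _ h'' (mul_inv_cancel_left _ _).symm)
  obtain ⟨g, ⟨hgC, hgR⟩, hgz⟩ := hg
  obtain ⟨E, hE, h24⟩ := hrec G₀ hidx (ι (QuotientGroup.mk ⟨z, hzC⟩ : Cb ⧸ T)) hz2 R' N M hF hex hcard hRN hNM hNc K hK φ hMi ⟨g, ⟨hgC, hgR⟩, hgz⟩
    (sylow_central hz2 hF hex) hFX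
  exact ⟨G₀, hidx, ⟨ι⟩, E, hE, h24, primitive_of_setting hidx hz2 hF hex hgR (isConj_iff.2 ⟨g, rfl⟩) hgz
    hirr hodd hE h24⟩

end Cfsg.Agent.H89.MonsterFi24
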