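import Cfsg.Agent.H41.LFi.Perfect

/-!
An additive permutation of the model space that commutes with 3.U₄(3) and with the semilinear
involution is trivial.
-/

set_option autoImplicit false
set_option maxRecDepth 20000

namespace Cfsg.Agent.H89.MonsterFi24

open Cfsg Cfsg.Agent.Compute Cfsg.Agent.Unitary Cfsg.Agent.H41.SUSix Cfsg.Agent.H41.LFi Matrix

theorem even_carrier : ∀ r : Fin 6,
    ∃ π : Equiv.Perm (Fin 6), Equiv.Perm.sign π = 1 ∧ π 0 = r := by
  intro r
  by_cases hr : r = 0
  · exact ⟨1, map_one _, hr ▸ rfl⟩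
  have h12 : (1 : Fin 6) ≠ 2 := by decide
  refine ⟨Equiv.swap 0 r * Equiv.swap 1 2, ?_, ?_⟩
  · rw [map_mul, Equiv.Perm.sign_swap (Ne.symm hr), Equiv.Perm.sign_swap h12]
    rfl
  · revert hr
    revert r
    decide +kernel

/-- Commuting with the model and the outer element forces the identity. -/
theorem eq_one_of_commute {s : Equiv.Perm Vec} (hadd : ∀ u v, s (u + v) = s u + s v)
    (hK : ∀ k ∈ Kl, ∀ u, s (k u) = k (s u)) (he : ∀ u, s (e0P u) = e0P (s u)) : s = 1 := by
  have h0 : s 0 = 0 := by
    have h := hadd 0 0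
    rw [add_zero] at h
    exact left_eq_add.1 h
  -- linearity
  obtain ⟨w, hw, hwu⟩ := exists_smul_mem
  have hω : ∀ u, s (ω₄ • u) = ω₄ • s u := fun u => by rw [← hwu, hK w hw, hwu]
  have hcases : ∀ c : K4, c = 0 ∨ c = 1 ∨ c = ω₄ ∨ c = ω₄ * ω₄ := by decide +kernel
  have hsmul : ∀ (c : K4) u, s (c • u) = c • s u := by
    intro c u
    rcases hcases c with rfl | rfl | rfl | rfl
    · rw [zero_smul, zero_smul, h0]
    · rw [one_smul, one_smul]
    · exact hω u
    · rw [mul_smul, mul_smul, hω, hω]
  -- diagonal elements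
  have hdiag : ∀ (d : Vec) (hd : ∏ c, d c = 1) (u : Vec), s (fun i => d i * u i) = fun i => d i * s u i := by
    intro d hd u
    have e : ∀ v, lin (diagG d hd) v = fun i => d i * v i := fun v => by
      rw [lin_apply, ap_def, diagG, mat_monoG, mono_eq_diagonal]
      funext i
      rw [Matrix.mulVec_diagonal]
    have h := hK _ (Subgroup.mem_map_of_mem lin (D_le_K (diagG_mem d hd))) u
    rwa [e, e] at h
  have hline : ∀ r c : Fin 6, r ≠ c → s (Pi.single c 1) r = 0 := by
    intro r c hrc
    let d : Vec := Function.update (Function.update (fun _ => 1) r ω₄) c (ω₄ * ω₄)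
    have hd : ∏ i, d i = 1 := by
      have : ∀ r c : Fin 6, r ≠ c → ∏ i, Function.update
          (Function.update (fun _ => (1 : K4)) r ω₄) c (ω₄ * ω₄) i = 1 := by decide +kernel
      exact this r c hrc
    have hdc : d c = ω₄ * ω₄ := Function.update_self _ _ _
    have hdr : d r = ω₄ := by
      show Function.update _ c _ r = _
      rw [Function.update_of_ne hrc, Function.update_self]
    have e : (fun i => d i * (Pi.single c (1 : K4) : Vec) i) = (ω₄ * ω₄) • (Pi.single c (1 : K4) : Vec) := by
      funext i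
      rw [Pi.smul_apply, smul_eq_mul]
      by_cases hi : i = c
      · rw [hi, hdc]
      · rw [Pi.single_eq_of_ne hi, mul_zero, mul_zero]
    have h := hdiag d hd (Pi.single c 1)
    rw [e, hsmul] at h
    have h' := congrFun h r
    rw [Pi.smul_apply, smul_eq_mul, hdr] at h'
    have key : ∀ x : K4, ω₄ * ω₄ * x = ω₄ * x → x = 0 := by decide +kernel
    exact key _ h'
  -- permutation elements
  have hperm : ∀ r : Fin 6, s (Pi.single r 1) r = s (Pi.single 0 1) 0 := by
    intro r
    obtain ⟨π, hπ, hπr⟩ := even_carrier r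
    have h := hK _ (Subgroup.mem_map_of_mem lin (pm_even_mem hπ)) (Pi.single 0 1)
    rw [lin_apply, lin_apply, ap_def, ap_def, mat_pmG, mono_mulVec_single, one_mul, hπr] at h
    have h' := congrFun h (π 0)
    rw [mono_mulVec, one_mul] at h'
    rwa [hπr] at h'
  set a := s (Pi.single 0 1) 0 with ha
  have hbasis : ∀ r : Fin 6, s (Pi.single r 1) = a • (Pi.single r (1 : K4) : Vec) := by
    intro r
    funext i
    rw [Pi.smul_apply, smul_eq_mul]
    by_cases hi : i = r
    · rw [hi, Pi.single_eq_same, mul_one, hperm]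
    · rw [Pi.single_eq_of_ne hi, mul_zero, hline i r hi]
  have hscal : ∀ u, s u = a • u := by
    intro u
    have e := vec_expand u
    rw [e]
    simp only [hadd, hsmul, eb, hbasis, smul_add, smul_smul, mul_comm a]
  -- the scalar is rational
  have e := hscal (e0P (e0P.symm (eb 0)))
  rw [he, hscal, semi_e0P.smul, Equiv.apply_symm_apply] at e
  have e' := congrFun e 0
  simp only [Pi.smul_apply, eb, Pi.single_eq_same, smul_eq_mul, mul_one] at e'
  have key : ∀ c : K4, tw true c = c → c = 0 ∨ c = 1 := by decide +kernel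
  rcases key a e' with h | h
  · exfalso
    have h1 := hscal (Pi.single 0 1)
    rw [h, zero_smul, ← h0] at h1
    exact absurd (s.injective h1) (by decide +kernel)
  · exact Equiv.ext fun u => by rw [hscal u, h, one_smul]; rfl

end Cfsg.Agent.H89.MonsterFi24
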