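import Cfsg.Agent.H89.MonsterFi24.Inverter
import Cfsg.Agent.H89.MonsterThree.Main

/-!
In a group of Monster type: the elements of the involution centraliser inverting the three-central
element, and that element as a product of commutators.
-/

set_option autoImplicit false
set_option linter.style.haveILetI false
set_option maxRecDepth 100000

namespace Cfsg.Agent.H89.MonsterFi24

open Cfsg Cfsg.Agent.Golay Cfsg.Agent.H92.LeechTwo Cfsg.Agent.H92.MonsterQ
open Cfsg.Agent.H65.MonsterFive (phi phi_eq_one qm_facts orderOf_conj_eq mem_centralizer_zpowers)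
open Cfsg.Agent.H65.MonsterThree (coset_three)
open Cfsg.Agent.H41.SUSix (Vec)
open Cfsg.Agent.H89.MonsterThree

variable {G : Type*} [Group G] [Finite G] {z : G}
  {Q : Subgroup (Subgroup.centralizer ({z} : Set G))} [Q.Normal]
  {e : (Subgroup.centralizer ({z} : Set G)) ⧸ Q ≃* Spor.Co1}
  {ψ : leechLattice → Q ⧸ Subgroup.center Q}

theorem eq_of_mk_eq {a a' : Co0} (ha : a ^ 3 = 1) (ha' : a' ^ 3 = 1)
    (h : (QuotientGroup.mk a : Spor.Co1) = QuotientGroup.mk a') : a = a' := by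
  have hc := QuotientGroup.eq.1 h
  set c := a⁻¹ * a' with hcdef
  have e : a' = a * c := (mul_inv_cancel_left a a').symm
  have h3 : c ^ 3 = 1 := by
    rw [e, (show Commute a c from Subgroup.mem_center_iff.1 hc a).mul_pow, ha, one_mul] at ha'
    exact ha'
  have hd := orderOf_dvd_natCard (⟨c, hc⟩ : Subgroup.center Co0)
  rw [card_center_co0, ← Subgroup.orderOf_coe] at hd
  have h1 : c = 1 := orderOf_eq_one_iff.1
    (Nat.eq_one_of_dvd_coprimes (by norm_num : Nat.Coprime 2 3) hd (orderOf_dvd_of_pow_eq_one h3))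
  rw [e, h1, mul_one]

theorem cg_of_mk (S : Setting z Q e ψ) {g g' : Co0}
    (h : (QuotientGroup.mk g : Spor.Co1) = QuotientGroup.mk g') (v : leechLattice) :
    Cg (g • v) (g' • v) := by
  obtain ⟨k, hk⟩ := exists_lift S g
  obtain ⟨q, hq⟩ := QuotientGroup.mk_surjective (ψ v)
  refine (psi_cg S).1 ?_
  rw [psi_smul S (g := g) (h := k) hk hq.symm, psi_smul S (g := g') (h := k) (h.symm.trans hk) hq.symm]

/-- A lift of an element normalising the element, in the normaliser of the three-group. -/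
theorem lift_conj (S : Setting z Q e ψ) {b : G} (hb3 : orderOf b = 3)
    (hbz : b ∈ Subgroup.centralizer ({z} : Set G)) (hbe : phi e ⟨b, hbz⟩ = QuotientGroup.mk three)
    {g : Co0} {c : G} (hcz : c ∈ Subgroup.centralizer ({z} : Set G)) (hc3 : orderOf c = 3)
    (hce : phi e ⟨c, hcz⟩ = QuotientGroup.mk (g * three * g⁻¹)) :
    ∃ (k : G) (hk : k ∈ Subgroup.centralizer ({z} : Set G)),
      phi e ⟨k, hk⟩ = QuotientGroup.mk g ∧ k * b * k⁻¹ = c := by
  obtain ⟨-, hQcard, -, -, -⟩ := qm_facts S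
  obtain ⟨-, hconj⟩ := map_setting S
  obtain ⟨h, hh⟩ := exists_lift S g
  have hh' : phi e h = QuotientGroup.mk g := hh.symm
  have hmem : (h : G) * b * (h : G)⁻¹ * c⁻¹ ∈ Q.map (Subgroup.centralizer ({z} : Set G)).subtype := by
    refine ⟨h * ⟨b, hbz⟩ * h⁻¹ * ⟨c, hcz⟩⁻¹, phi_eq_one (e := e) |>.1 ?_, rfl⟩
    rw [map_mul, map_mul, map_mul, map_inv, map_inv, hh', hbe, hce, ← QuotientGroup.mk_inv,
      ← QuotientGroup.mk_mul, ← QuotientGroup.mk_mul, mul_inv_cancel]
  obtain ⟨n, hn, hnb⟩ := coset_three hc3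
    (fun h5 => by rw [hQcard] at h5; norm_num at h5)
    (fun n hn => hconj n hn c hcz) ((orderOf_conj_eq _ b).trans hb3) hmem
  have hkz : n * (h : G) ∈ Subgroup.centralizer ({z} : Set G) :=
    mul_mem (Subgroup.map_subtype_le _ hn) h.2
  refine ⟨n * h, hkz, ?_, ?_⟩
  · obtain ⟨c', hc', hcn⟩ := hn
    rw [show (⟨n * h, hkz⟩ : Subgroup.centralizer ({z} : Set G)) = c' * h from
      Subtype.ext (by rw [Subgroup.coe_mul]; exact congrArg (· * (h : G)) hcn.symm),
      map_mul, phi_eq_one.2 hc', one_mul, hh']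
  · rw [← hnb]
    group

/-- A lift of an element of the centraliser. -/
theorem lift_cent (S : Setting z Q e ψ) {b : G} (hb3 : orderOf b = 3)
    (hbz : b ∈ Subgroup.centralizer ({z} : Set G)) (hbe : phi e ⟨b, hbz⟩ = QuotientGroup.mk three)
    {δ : Co0} (hδ : δ ∈ cent) :
    ∃ (c : G) (hc : c ∈ Subgroup.centralizer ({z} : Set G)),
      phi e ⟨c, hc⟩ = QuotientGroup.mk δ ∧ c * b = b * c := by
  obtain ⟨c, hc, h1, h2⟩ := lift_conj S hb3 hbz hbe (g := δ) hbz hb3 (by
    rw [hbe, Subgroup.mem_centralizer_singleton_iff.1 hδ, mul_inv_cancel_right])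
  exact ⟨c, hc, h1, mul_inv_eq_iff_eq_mul.1 h2⟩

/-- Some element of the involution centraliser inverts the element. -/
theorem exists_inverting (S : Setting z Q e ψ) {b : G} (hb3 : orderOf b = 3)
    (hbz : b ∈ Subgroup.centralizer ({z} : Set G)) (hbe : phi e ⟨b, hbz⟩ = QuotientGroup.mk three) :
    ∃ k, k ∈ Subgroup.centralizer ({z} : Set G) ∧ k * b * k⁻¹ = b⁻¹ := by
  obtain ⟨g, -, hg⟩ := exists_invert
  obtain ⟨k, hk, -, h⟩ := lift_conj S hb3 hbz hbe (g := g) (inv_mem hbz) (by rw [orderOf_inv, hb3]) (by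
    rw [show (⟨b⁻¹, inv_mem hbz⟩ : Subgroup.centralizer ({z} : Set G)) = ⟨b, hbz⟩⁻¹ from rfl, map_inv,
      hbe, hg, QuotientGroup.mk_inv])
  exact ⟨k, hk, h⟩

/-- An inverting element neither centralises the fixed part nor commutes with the centraliser
modulo it. -/
theorem inverting_acts (S : Setting z Q e ψ) {b : G} (hb3 : orderOf b = 3)
    (hbz : b ∈ Subgroup.centralizer ({z} : Set G)) (hbe : phi e ⟨b, hbz⟩ = QuotientGroup.mk three)
    {k : G} (hk : k ∈ Subgroup.centralizer ({z} : Set G)) (hkb : k * b * k⁻¹ = b⁻¹) :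
    (∃ q ∈ Q.map (Subgroup.centralizer ({z} : Set G)).subtype, q * b = b * q ∧ k * q ≠ q * k) ∧
    ∃ c ∈ Subgroup.centralizer ({z} : Set G), c * b = b * c ∧
      ∀ q ∈ Q.map (Subgroup.centralizer ({z} : Set G)).subtype, ∀ t ∈ Subgroup.zpowers b,
        k * c * k⁻¹ * c⁻¹ ≠ q * t := by
  classical
  have hb3' : b ^ 3 = 1 := hb3 ▸ pow_orderOf_eq_one b
  obtain ⟨γ, hγ⟩ := QuotientGroup.mk_surjective (phi e ⟨k, hk⟩)
  have hγ3 : γ * three * γ⁻¹ = three⁻¹ := by
    refine eq_of_mk_eq (by rw [conj_pow, three_pow_three, mul_one, mul_inv_cancel])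
      (by rw [inv_pow, three_pow_three, inv_one]) ?_
    rw [QuotientGroup.mk_mul, QuotientGroup.mk_mul, QuotientGroup.mk_inv, QuotientGroup.mk_inv, hγ,
      ← hbe, ← map_inv, ← map_inv, ← map_mul, ← map_mul]
    exact congrArg (phi e) (Subtype.ext hkb)
  have hfixq : ∀ u : Vec, ∃ q : Q, ψ (Rv u) = QuotientGroup.mk q ∧ vG q * b = b * vG q := by
    intro u
    obtain ⟨q, hq⟩ := QuotientGroup.mk_surjective (ψ (Rv u))
    refine ⟨q, hq.symm, (conj_eq_of_class S hb3' hbz ?_).symm⟩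
    have e1 := psi_smul S (g := three) (h := ⟨b, hbz⟩) hbe.symm hq.symm
    rw [three_Rv, ← hq] at e1
    exact e1.symm
  constructor
  · by_contra hcon
    push Not at hcon
    refine inverts_moves hγ3 fun u => (psi_cg S).1 ?_
    obtain ⟨q, hq, hqb⟩ := hfixq u
    rw [psi_smul S (g := γ) (h := ⟨k, hk⟩) hγ hq, hq]
    congr 1
    refine vG_injective ?_
    show k * vG q * k⁻¹ = vG q
    rw [show k * vG q = vG q * k from hcon (vG q) ⟨_, q.2, rfl⟩ hqb, mul_inv_cancel_right]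
  · obtain ⟨δ, hδ, u, hu⟩ := inverts_noncentral hγ3
    obtain ⟨c, hc, hce, hcb⟩ := lift_cent S hb3 hbz hbe hδ
    refine ⟨c, hc, hcb, ?_⟩
    rintro _ ⟨q, hq, rfl⟩ t ht heq
    obtain ⟨i, rfl⟩ := (mem_powers_iff_mem_zpowers.2 ht : t ∈ Submonoid.powers b)
    refine hu ?_
    have hmk : (QuotientGroup.mk (γ * δ * γ⁻¹ * δ⁻¹) : Spor.Co1) = QuotientGroup.mk (three ^ i) := by
      rw [QuotientGroup.mk_mul, QuotientGroup.mk_mul, QuotientGroup.mk_mul, QuotientGroup.mk_inv,
        QuotientGroup.mk_inv, QuotientGroup.mk_pow, hγ, ← hce, ← hbe, ← map_pow, ← map_inv, ← map_inv,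
        ← map_mul, ← map_mul, ← map_mul,
        show (⟨k, hk⟩ : Subgroup.centralizer ({z} : Set G)) * ⟨c, hc⟩ * ⟨k, hk⟩⁻¹ * ⟨c, hc⟩⁻¹ =
          q * ⟨b, hbz⟩ ^ i from Subtype.ext (by
            simp only [Subgroup.coe_mul, Subgroup.coe_inv, SubgroupClass.coe_pow]
            exact heq),
        map_mul, phi_eq_one.2 hq, one_mul]
    have hmk2 : (QuotientGroup.mk (γ * δ) : Spor.Co1) = QuotientGroup.mk (three ^ i * (δ * γ)) := by
      rw [show γ * δ = γ * δ * γ⁻¹ * δ⁻¹ * (δ * γ) by group, QuotientGroup.mk_mul, hmk,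
        ← QuotientGroup.mk_mul]
    have h1 := cg_of_mk S hmk2 (Rv u)
    simp only [mul_smul] at h1
    refine h1.trans ?_
    have hfix : Cg (three • (δ • γ • Rv u)) (δ • γ • Rv u) := by
      refine class_fixed hδ ?_
      have e : three * γ = γ * three⁻¹ := by
        have h' : γ * three⁻¹ * γ⁻¹ = three := by
          calc γ * three⁻¹ * γ⁻¹ = (γ * three * γ⁻¹)⁻¹ := by group
            _ = three := by rw [hγ3, inv_inv]
        calc three * γ = γ * three⁻¹ * γ⁻¹ * γ := by rw [h']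
          _ = γ * three⁻¹ := by group
      rw [← mul_smul, e, mul_smul]
      refine Cg.smul γ ?_
      rw [inv_smul_eq_iff.2 (three_Rv u).symm]
      exact Cg.refl _
    generalize δ • γ • Rv u = w at hfix
    clear heq hmk hmk2 h1 ht
    induction i with
    | zero => rw [pow_zero, one_smul]; exact Cg.refl _
    | succ i ih => rw [pow_succ', mul_smul]; exact (Cg.smul three ih).trans hfix

/-- The element is a product of commutators in its centraliser. -/
theorem mem_commutator (S : Setting z Q e ψ) {b : G} (hb3 : orderOf b = 3)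
    (hbz : b ∈ Subgroup.centralizer ({z} : Set G)) (hbe : phi e ⟨b, hbz⟩ = QuotientGroup.mk three) :
    ⟨b, mem_centralizer_zpowers.2 rfl⟩ ∈
      _root_.commutator ↥(Subgroup.centralizer (Subgroup.zpowers b : Set G)) := by
  obtain ⟨-, hQcard, -, -, -⟩ := qm_facts S
  obtain ⟨x, hx, y, hy, hxy⟩ := exists_comm
  obtain ⟨u, hu, hue, hub⟩ := lift_cent S hb3 hbz hbe hx
  obtain ⟨v, hv, hve, hvb⟩ := lift_cent S hb3 hbz hbe hy
  set Cb := Subgroup.centralizer (Subgroup.zpowers b : Set G)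
  set b' : Cb := ⟨b, mem_centralizer_zpowers.2 rfl⟩
  let u' : Cb := ⟨u, mem_centralizer_zpowers.2 hub⟩
  let v' : Cb := ⟨v, mem_centralizer_zpowers.2 hvb⟩
  have hb3' : b' ^ 3 = 1 := Subtype.ext (show b ^ 3 = 1 from hb3 ▸ pow_orderOf_eq_one b)
  have key : ∀ t : Cb, t = b' ∨ t = b'⁻¹ →
      (u' * v' * u'⁻¹ * v'⁻¹ * t⁻¹ : Cb).1 ∈ Q.map (Subgroup.centralizer ({z} : Set G)).subtype →
      b' ∈ _root_.commutator Cb := by
    intro t ht hq
    set D := _root_.commutator Cb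
    let π := QuotientGroup.mk' D
    have hcomm : π (u' * v' * u'⁻¹ * v'⁻¹) = 1 := (QuotientGroup.eq_one_iff _).2 (by
      rw [show D = _root_.commutator Cb from rfl, _root_.commutator_def]
      exact Subgroup.commutator_mem_commutator (Subgroup.mem_top u') (Subgroup.mem_top v'))
    set q := u' * v' * u'⁻¹ * v'⁻¹ * t⁻¹
    have hqt : π q = (π t)⁻¹ := by rw [map_mul, hcomm, one_mul, map_inv]
    have hq2 : orderOf (π t) ∣ 2 ^ 25 := by
      rw [← orderOf_inv, ← hqt, ← hQcard]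
      refine (orderOf_map_dvd π q).trans ?_
      rw [← Subgroup.orderOf_coe]
      exact Subgroup.orderOf_dvd_natCard _ hq
    have ht3 : orderOf (π t) ∣ 3 := by
      refine orderOf_dvd_of_pow_eq_one ?_
      rw [← map_pow]
      rcases ht with rfl | rfl
      · rw [hb3', map_one]
      · rw [inv_pow, hb3', inv_one, map_one]
    have h1 : π t = 1 := orderOf_eq_one_iff.1
      (Nat.eq_one_of_dvd_coprimes (Nat.Coprime.pow_left 25 (by norm_num : Nat.Coprime 2 3)) hq2 ht3)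
    have h2 : t ∈ D := (QuotientGroup.eq_one_iff _).1 h1
    rcases ht with rfl | rfl
    · exact h2
    · exact inv_mem_iff.1 h2
  have hmem : ∀ {t : G} (htz : t ∈ Subgroup.centralizer ({z} : Set G)),
      phi e ⟨t, htz⟩ = QuotientGroup.mk (x * y * x⁻¹ * y⁻¹) →
      u * v * u⁻¹ * v⁻¹ * t⁻¹ ∈ Q.map (Subgroup.centralizer ({z} : Set G)).subtype := by
    intro t htz ht
    refine ⟨⟨u, hu⟩ * ⟨v, hv⟩ * ⟨u, hu⟩⁻¹ * ⟨v, hv⟩⁻¹ * ⟨t, htz⟩⁻¹, phi_eq_one (e := e) |>.1 ?_, rfl⟩
    rw [map_mul, map_mul, map_mul, map_mul, map_inv, map_inv, map_inv, hue, hve, ht,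
      ← QuotientGroup.mk_inv, ← QuotientGroup.mk_inv, ← QuotientGroup.mk_mul, ← QuotientGroup.mk_mul,
      ← QuotientGroup.mk_mul, mul_inv_cancel]
  rcases hxy with h | h
  · exact key b' (Or.inl rfl) (hmem hbz (by rw [hbe, h]))
  · exact key b'⁻¹ (Or.inr rfl) (hmem (t := b⁻¹) (inv_mem hbz) (by
      rw [show (⟨b⁻¹, inv_mem hbz⟩ : Subgroup.centralizer ({z} : Set G)) = ⟨b, hbz⟩⁻¹ from rfl, map_inv,
        hbe, h, QuotientGroup.mk_inv]))

end Cfsg.Agent.H89.MonsterFi24
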