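import Cfsg.Agent.H89.MonsterFi24.Commutant
import Cfsg.Agent.H89.MonsterThree.Cent
import Cfsg.Agent.H89.MonsterThree.Sylow

/-!
An element inverting the element of shape 1^6 3^6: it exists, it moves some fixed class, and its action
on the fixed classes does not commute with that of the centraliser.  The element is a commutator in
its centraliser.
-/

set_option autoImplicit false
set_option maxRecDepth 100000
set_option maxHeartbeats 1000000

namespace Cfsg.Agent.H89.MonsterFi24

open Cfsg Cfsg.Agent.Golay Cfsg.Agent.H92.LeechTwo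
open Cfsg.Agent.H41.SUSix (Vec)
open Cfsg.Agent.H41.LFi (Kl e0P)
open Cfsg.Agent.H89.MonsterThree
open scoped Pointwise

theorem exists_invert : ∃ g ∈ crossStab, g * three * g⁻¹ = three⁻¹ := by
  obtain ⟨s, hs⟩ := exists_inverter
  refine ⟨permAut s, permAut_mem s, ?_⟩
  have h2 : elP 2 = tau⁻¹ := by
    refine eq_inv_of_mul_eq_one_left (Subtype.ext (Equiv.ext fun q => ?_))
    show (elP 2).1 (tau.1 q) = q
    rw [elP_apply, tau_apply, center_elts.2.1]
    exact tauF_facts.2.2.2.2.2 q
  rw [h2] at hs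
  have hs' : s * tau * s⁻¹ = tau⁻¹ := by
    calc s * tau * s⁻¹ = (s * tau⁻¹ * s⁻¹)⁻¹ := by group
      _ = tau⁻¹ := by rw [hs]
  rw [three_eq]
  show Cfsg.Agent.H92.LeechTwo.permHom s * Cfsg.Agent.H92.LeechTwo.permHom tau *
    (Cfsg.Agent.H92.LeechTwo.permHom s)⁻¹ = (Cfsg.Agent.H92.LeechTwo.permHom tau)⁻¹
  rw [← map_inv, ← map_inv, ← map_mul, ← map_mul, hs']

theorem elT_centTau : ∀ i : Fin 27, ∀ q, tblFun (elT i) (tauF q) = tauF (tblFun (elT i) q) := by
  decide +kernel

theorem comm_table : ∃ i j : Fin 27, mIx i j = mIx 1 (mIx j i) ∨ mIx i j = mIx 2 (mIx j i) := by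
  decide +kernel

theorem exists_comm : ∃ x ∈ cent, ∃ y ∈ cent,
    x * y * x⁻¹ * y⁻¹ = three ∨ x * y * x⁻¹ * y⁻¹ = three⁻¹ := by
  obtain ⟨i, j, hij⟩ := comm_table
  have hmem : ∀ k, Cfsg.Agent.H92.LeechTwo.permHom (elP k) ∈ cent := by
    intro k
    refine Subgroup.mem_centralizer_singleton_iff.2 ?_
    rw [three_eq, show permAut tau = Cfsg.Agent.H92.LeechTwo.permHom tau from rfl, ← map_mul, ← map_mul]
    refine congrArg _ (Subtype.ext (Equiv.ext fun q => ?_))
    show (elP k).1 (tau.1 q) = tau.1 ((elP k).1 q)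
    rw [elP_apply, elP_apply, tau_apply, tau_apply]
    exact elT_centTau k q
  refine ⟨_, hmem i, _, hmem j, ?_⟩
  rw [three_eq, show permAut tau = Cfsg.Agent.H92.LeechTwo.permHom tau from rfl, ← map_inv, ← map_inv,
    ← map_inv, ← map_mul, ← map_mul, ← map_mul]
  have h2 : elP 2 = tau⁻¹ := by
    refine eq_inv_of_mul_eq_one_left (Subtype.ext (Equiv.ext fun q => ?_))
    show (elP 2).1 (tau.1 q) = q
    rw [elP_apply, tau_apply, center_elts.2.1]
    exact tauF_facts.2.2.2.2.2 q
  rcases hij with h | h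
  · left
    refine congrArg _ ?_
    rw [elP_mul, h, ← elP_mul, ← elP_mul, elP_one]
    group
  · right
    refine congrArg _ ?_
    rw [elP_mul, h, ← elP_mul, ← elP_mul, h2]
    group

/-- The five fixed points other than the first. -/
theorem five_octad : (codeList.filter fun m => Nat.beq (popCnt m) 8 &&
    (fxL.drop 1).all fun i => m.testBit i) =
    (codeList.filter fun m => Nat.beq m (octM 0 0)) := by
  decide +kernel

theorem idx_fxp : ∀ i : Fin 6, idx (fxp i) = fxL.getD i.1 0 := by decide +kernel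

theorem stab_seven : isTrivialStab [] (fxM ||| 2 ^ repL.getD 0 0) = true := by decide +kernel

theorem mem_seven : ∀ q : GolayPt, q ∈ ptSet (fxM ||| 2 ^ repL.getD 0 0) ↔
    (∃ i, q = fxp i) ∨ q = rp 0 := by
  decide +kernel

/-- A permutation fixing the six fixed points commutes with the element. -/
theorem commute_of_fix {σ : M24} (h : ∀ i, σ.1 (fxp i) = fxp i) : σ * tau = tau * σ := by
  set O := ptSet (octM 0 0) with hOdef
  have hcode : O ∈ supports (golayCode : Set (GolayPt → ZMod 2)) :=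
    (ptSet_mem_supports_iff (octM_facts 0 0).2.1).2 (inCode_iff.1 ((octM_facts 0 0).2.2.2 rfl))
  have h2 := smul_mem_supports σ.2 hcode
  have hml : maskOf (σ.1 • O) ∈ codeList := mem_supports_iff.1 h2
  have hrp : σ.1 (rp 0) ∈ σ.1 • O :=
    Finset.mem_smul_finset.2 ⟨rp 0, (octM_mem _ _ _).2 (Or.inr ⟨0, rfl⟩), rfl⟩
  have hm : maskOf (σ.1 • O) = octM 0 0 := by
    have hin : maskOf (σ.1 • O) ∈ (codeList.filter fun m => Nat.beq (popCnt m) 8 &&
        (fxL.drop 1).all fun i => m.testBit i) := by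
      refine List.mem_filter.2 ⟨hml, ?_⟩
      rw [Bool.and_eq_true]
      refine ⟨?_, List.all_eq_true.2 fun n hn => ?_⟩
      · have : popCnt (maskOf (σ.1 • O)) = 8 := by
          rw [← card_ptSet, ptSet_maskOf, Finset.card_smul_finset, hOdef, card_ptSet, (octM_facts 0 0).1]
        rw [this]
        rfl
      · obtain ⟨i, hi0, rfl⟩ : ∃ i : Fin 6, i ≠ 0 ∧ fxL.getD i.1 0 = n := by
          have key : ∀ n ∈ fxL.drop 1, ∃ i : Fin 6, i ≠ 0 ∧ fxL.getD i.1 0 = n := by decide +kernel
          exact key n hn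
        rw [← idx_fxp, ← mem_ptSet, ptSet_maskOf]
        exact Finset.mem_smul_finset.2 ⟨fxp i, (octM_mem _ _ _).2 (Or.inl ⟨i, hi0, rfl⟩), h i⟩
    rw [five_octad, List.mem_filter] at hin
    exact Nat.eq_of_beq_eq_true hin.2
  rw [← ptSet_maskOf (σ.1 • O), hm] at hrp
  rcases (octM_mem _ _ _).1 hrp with ⟨i, -, hi⟩ | ⟨n, hn⟩
  · rw [← h i] at hi
    have key : ∀ i, rp 0 ≠ fxp i := by decide +kernel
    exact absurd (σ.1.injective hi) (key i)
  have e : σ = tau ^ n.1 := by
    refine perm_eq_of_agree stab_seven fun q hq => ?_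
    rw [tau_pow_apply]
    rcases (mem_seven q).1 hq with ⟨i, rfl⟩ | rfl
    · rw [h i, Function.iterate_fixed (tauF_facts.1 i)]
    · exact hn
  rw [e, ← pow_succ, ← pow_succ']

/-- A fixed vector on two fixed points. -/
def pairF (i j : Fin 6) : GolayPt → ℤ := Pi.single (fxp i) 4 + Pi.single (fxp j) 4

theorem pairF_ok : ∀ i j : Fin 6, i ≠ j → inLeech (pairF i j) = true ∧ sqNorm (pairF i j) = 32 ∧
    (∀ q, pairF i j (tauF q) = pairF i j q) ∧
    ∀ q, pairF i j q ≠ 0 → q = fxp i ∨ q = fxp j := by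
  decide +kernel

theorem pairF_self : ∀ i j : Fin 6, i ≠ j → pairF i j (fxp i) ≠ 0 := by decide +kernel

/-- An inverting element moves a fixed class. -/
theorem inverts_moves {g : Co0} (hg : g * three * g⁻¹ = three⁻¹) :
    ¬ ∀ u, Cg (g • Rv u) (Rv u) := by
  intro h
  have hall : ∀ {v}, Cg (three • v) v → Cg (g • v) v := fun hv =>
    ((Cg.smul g (cg_Rv hv)).trans (h _)).trans (cg_Rv hv).symm
  have hgc : g ∈ crossStab := by
    rw [← classStab_axis, mem_classStab]
    exact hall axis_class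
  obtain ⟨a, ha, σ, hgσ⟩ := split_crossStab hgc
  obtain ⟨c, rfl⟩ := mem_signs.1 ha
  have hfix : ∀ i, σ.1 (fxp i) = fxp i := by
    intro i
    have key : ∀ j, i ≠ j → σ.1 (fxp i) = fxp i ∨ σ.1 (fxp i) = fxp j := by
      intro j hij
      obtain ⟨hin, hsq, hfx, hsupp⟩ := pairF_ok i j hij
      set v : leechLattice := ⟨pairF i j, mem_of_inLeech hin⟩
      have hvf : Cg (three • v) v := by
        rw [three_fix_iff.2 hfx]
        exact Cg.refl _
      have hn : nrm v = 32 := hsq
      have hn' : nrm (g • v) = 32 := (co0_sqNorm g v).trans hsq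
      have hne : (g • v).1 (σ.1 (fxp i)) ≠ 0 := by
        rw [hgσ, mul_smul, signAut_apply,
          show Cfsg.Agent.H92.LeechTwo.permHom σ = permAut σ from rfl, permAut_apply]
        split_ifs
        · exact neg_ne_zero.2 (pairF_self i j hij)
        · exact pairF_self i j hij
      have hor : g • v = v ∨ g • v = -v := by
        rcases short_unique (hall hvf) (by rw [hn, hn']; norm_num) with e | e | ⟨e, -⟩
        · exact Or.inl e.symm
        · exact Or.inr (by conv_rhs => rw [e, neg_neg])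
        · omega
      refine hsupp _ ?_
      rcases hor with e | e <;> rw [e] at hne
      · exact hne
      · exact fun h0 => hne (by show -(v.1 (σ.1 (fxp i))) = 0; rw [show v.1 (σ.1 (fxp i)) = 0 from h0, neg_zero])
    obtain ⟨j, k, hij, hik, hjk⟩ : ∃ j k : Fin 6, i ≠ j ∧ i ≠ k ∧ j ≠ k :=
      (by decide : ∀ i : Fin 6, ∃ j k : Fin 6, i ≠ j ∧ i ≠ k ∧ j ≠ k) i
    rcases key j hij with h1 | h1
    · exact h1
    rcases key k hik with h2 | h2
    · exact h2
    exact absurd (tauF_facts.2.2.1 _ _ (h1.symm.trans h2)) hjk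
  have hcomm := commute_of_fix hfix
  have hthree : three ∈ crossStab := three_eq ▸ permAut_mem tau
  have hperm : permOf ⟨g, hgc⟩ = σ := by
    have hac : signAut c ∈ crossStab := signs_le ha
    have e : (⟨g, hgc⟩ : crossStab) = ⟨signAut c, hac⟩ * ⟨permAut σ, permAut_mem σ⟩ := Subtype.ext hgσ
    rw [e, map_mul, permOf_permAut]
    obtain ⟨a', ha', hae⟩ := ha
    rw [show (⟨signAut c, hac⟩ : crossStab) = a' from Subtype.ext hae.symm, MonoidHom.mem_ker.1 ha',
      one_mul]
  have e := congrArg permOf (show (⟨g, hgc⟩ : crossStab) * ⟨three, hthree⟩ * ⟨g, hgc⟩⁻¹ =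
    ⟨three, hthree⟩⁻¹ from Subtype.ext hg)
  rw [map_mul, map_mul, map_inv, map_inv, permOf_three, hperm, hcomm, mul_inv_cancel_right] at e
  have hne : ∀ q, q = rp 0 → tauF (tauF q) ≠ q := by decide +kernel
  refine hne _ rfl ?_
  rw [← tau_apply, ← tau_apply]
  conv_rhs => rw [← tau.1.symm_apply_apply (rp 0)]
  rw [show tau.1.symm (tau.1 (rp 0)) = (tau⁻¹).1 (tau.1 (rp 0)) from rfl, ← e]

/-- An inverting element does not commute with the centraliser on the fixed classes. -/
theorem inverts_noncentral {g : Co0} (hg : g * three * g⁻¹ = three⁻¹) :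
    ∃ δ ∈ cent, ∃ u, ¬ Cg (g • δ • Rv u) (δ • g • Rv u) := by
  by_contra hcon
  push Not at hcon
  have hinv : ∀ {v}, Cg (three • v) v → Cg (three • (g • v)) (g • v) := by
    intro v hv
    have e : three * g = g * three⁻¹ := by
      have h' : g * three⁻¹ * g⁻¹ = three := by
        calc g * three⁻¹ * g⁻¹ = (g * three * g⁻¹)⁻¹ := by group
          _ = three := by rw [hg, inv_inv]
      calc three * g = g * three⁻¹ * g⁻¹ * g := by rw [h']
        _ = g * three⁻¹ := by group
    rw [← mul_smul, e, mul_smul]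
    refine Cg.smul g ?_
    have := Cg.smul three⁻¹ hv.symm
    rwa [inv_smul_smul] at this
  have hcls : ∀ u, Cg (three • (g • Rv u)) (g • Rv u) := fun u => hinv (Rv_fixed u)
  let s0 : Vec → Vec := fun u => kv (g • Rv u)
  have hs : ∀ {v}, Cg (three • v) v → kv (g • v) = s0 (kv v) := fun hv =>
    kv_cg (Cg.smul g (cg_Rv hv))
  have hinj : Function.Injective s0 := by
    intro u u' h
    have h' : Cg (g • Rv u) (g • Rv u') := by
      have e1 := cg_Rv (hcls u)
      rw [show kv (g • Rv u) = kv (g • Rv u') from h] at e1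
      exact e1.trans (cg_Rv (hcls u')).symm
    have := Cg.smul g⁻¹ h'
    rw [inv_smul_smul, inv_smul_smul] at this
    exact Rv_cg_injective this
  set s : Equiv.Perm Vec := Equiv.ofBijective s0 hinj.bijective_of_finite
  have hadd : ∀ u v, s (u + v) = s u + s v := by
    intro u v
    show s0 (u + v) = s0 u + s0 v
    have hf : Cg (three • (Rv u + Rv v)) (Rv u + Rv v) := by
      rw [co0_smul_add, three_Rv, three_Rv]
      exact Cg.refl _
    have e := hs hf
    rw [co0_smul_add, kv_add, kv_add, kv_Rv, kv_Rv] at e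
    exact e.symm
  have hcomm : ∀ δ : cent, ∀ u, s (shHom δ u) = shHom δ (s u) := by
    intro δ u
    show s0 (kv (δ.1 • Rv u)) = sh δ (kv (g • Rv u))
    rw [← hs (class_fixed δ.2 (Rv_fixed u)), ← sh_spec δ (hcls u)]
    exact kv_cg (hcon δ.1 δ.2 u)
  have h1 : s = 1 := by
    refine eq_one_of_commute hadd (fun k hk u => ?_) (fun u => ?_)
    · obtain ⟨δ, rfl⟩ := Kl_le hk
      exact hcomm δ u
    · rw [← gen_out]
      exact hcomm _ u
  refine inverts_moves hg fun u => ?_
  have e := cg_Rv (hcls u)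
  rwa [show kv (g • Rv u) = u from congrArg (fun p : Equiv.Perm Vec => p u) h1] at e

end Cfsg.Agent.H89.MonsterFi24
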